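import Cfsg.Agent.Lib.OddOrder.ZJFusion
import Cfsg.Agent.Lib.OddOrder.SylowOf
import Cfsg.Agent.Lib.Solvable.Fitting
import Cfsg.Agent.Lib.PCore.PSolvable
import Cfsg.Agent.Lib.Structure81.FPFPGroup
import Mathlib.GroupTheory.SpecificGroups.ZGroup

/-!
# Sylow subgroups with `p`-group centralizers are T.I. in a minimal simple group of odd order
-/

set_option autoImplicit false
set_option linter.style.haveILetI false

open scoped commutatorElement

namespace CfsgLib.CNGroup

open Subgroup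

universe u

/-- In a solvable group of odd order whose `p`-elements have `p`-group centralizers, a non-normal
Sylow `p`-subgroup is not contained in the derived subgroup, provided `O_p ≠ 1`. -/
theorem not_le_commutator {X : Type u} [Group X] [Finite X] [Group.IsSolvable X]
    (hodd : Odd (Nat.card X)) {p : ℕ} [hp : Fact p.Prime]
    (hC : ∀ d : X, d ≠ 1 → (∃ k, orderOf d = p ^ k) →
      IsPGroup p ↥(centralizer ({d} : Set X)))
    (hD : Cfsg.pCore p X ≠ ⊥) (P : Sylow p X) (hP : ¬ (P : Subgroup X).Normal) :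
    ¬ (P : Subgroup X) ≤ commutator X := by
  intro hle
  haveI : (Cfsg.pCore p X).Normal := CfsgLib.Fitting.pCore_normal p
  set D := Cfsg.pCore p X with hDdef
  have hDp : IsPGroup p ↥D := CfsgLib.Fitting.pCore_isPGroup p
  haveI : Group.IsSolvable (X ⧸ D) := inferInstance
  set F := Cfsg.fittingSubgroup (X ⧸ D) with hFdef
  haveI : F.Normal := CfsgLib.Fitting.fitting_normal
  have hO : Cfsg.pCore p (X ⧸ D) = ⊥ := CfsgLib.PCore.pCore_quotient_pCore
  have hFp : ¬ p ∣ Nat.card ↥F := by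
    intro hd
    obtain ⟨S⟩ : Nonempty (Sylow p ↥F) := inferInstance
    have h1 := CfsgLib.Fitting.sylow_fitting_eq_pCore S
    rw [hO, map_eq_bot_iff_of_injective _ F.subtype_injective] at h1
    have h2 := S.dvd_card_of_dvd_card hd
    rw [h1, card_bot] at h2
    exact hp.out.not_dvd_one h2
  -- a complement of `D` in the preimage of the Fitting subgroup
  set A := F.comap (QuotientGroup.mk' D) with hA
  let π : ↥A →* ↥F := (QuotientGroup.mk' D).subgroupComap F
  have hπ : Function.Surjective π := fun y => by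
    obtain ⟨x, hx⟩ := QuotientGroup.mk_surjective (y : X ⧸ D)
    exact ⟨⟨x, by simp [hA, hx]⟩, Subtype.ext hx⟩
  have hker : π.ker = D.subgroupOf A := by
    ext a
    rw [MonoidHom.mem_ker, mem_subgroupOf, ← QuotientGroup.eq_one_iff (N := D)]
    exact Subtype.ext_iff
  have hDA : D ≤ A := fun x hx => by
    rw [hA, mem_comap, QuotientGroup.mk'_apply, (QuotientGroup.eq_one_iff x).2 hx]
    exact one_mem _
  have hidx : π.ker.index = Nat.card ↥F := by
    rw [index_ker, MonoidHom.range_eq_top.2 hπ, card_top]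
  have hcardK : Nat.card ↥π.ker = Nat.card ↥D := by
    rw [hker, Nat.card_congr (subgroupOfEquivOfLe hDA).toEquiv]
  have hcop : (Nat.card ↥π.ker).Coprime π.ker.index := by
    rw [hidx, hcardK]
    obtain ⟨k, hk⟩ := IsPGroup.iff_card.1 hDp
    rw [hk]
    exact Nat.Coprime.pow_left _ (hp.out.coprime_iff_not_dvd.2 hFp)
  obtain ⟨E, hE⟩ := exists_right_complement'_of_coprime hcop
  let g : ↥E →* ↥F := π.comp E.subtype
  have hgs : Function.Surjective g := by
    intro y
    obtain ⟨a, rfl⟩ := hπ y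
    obtain ⟨⟨d, e⟩, hde⟩ := hE.2 a
    refine ⟨e, ?_⟩
    rw [← hde]
    show π (e : ↥A) = π ((d : ↥A) * (e : ↥A))
    rw [map_mul, MonoidHom.mem_ker.1 d.2, one_mul]
  have hginj : Function.Injective g := by
    rw [injective_iff_map_eq_one]
    intro e he
    have h1 : (e : ↥A) ∈ π.ker ⊓ E := ⟨MonoidHom.mem_ker.2 he, e.2⟩
    rw [hE.disjoint.eq_bot, mem_bot] at h1
    exact Subtype.ext h1
  have hcardE : Nat.card ↥E = Nat.card ↥F := Nat.card_eq_of_bijective g ⟨hginj, hgs⟩
  haveI : Group.IsNilpotent ↥E := by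
    haveI : Group.IsNilpotent ↥F := CfsgLib.Fitting.fitting_isNilpotent
    exact Group.nilpotent_of_mulEquiv (MulEquiv.ofBijective g ⟨hginj, hgs⟩).symm
  -- the complement acts fixed-point-freely on `D`
  let ι : ↥E →* X := A.subtype.comp E.subtype
  have hι : Function.Injective ι := fun a b h => Subtype.ext (Subtype.ext h)
  letI : MulDistribMulAction ↥E ↥D :=
    MulDistribMulAction.compHom ↥D ((MulAut.conjNormal (H := D)).comp ι)
  have hfpf : CfsgLib.Frobenius.IsFPF ↥E ↥D := by
    intro e he v hv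
    by_contra hv1
    have hv' : (MulAut.conjNormal (ι e) v : X) = v := congrArg Subtype.val hv
    rw [MulAut.conjNormal_apply] at hv'
    obtain ⟨k, hk⟩ := IsPGroup.iff_orderOf.1 hDp v
    have hCv := hC (v : X) (fun h => hv1 (Subtype.ext h)) ⟨k, by rw [orderOf_coe, hk]⟩
    have hmem : ι e ∈ centralizer ({(v : X)} : Set X) :=
      mem_centralizer_singleton_iff.2 (mul_inv_eq_iff_eq_mul.1 hv')
    obtain ⟨l, hl⟩ := IsPGroup.iff_orderOf.1 hCv ⟨ι e, hmem⟩
    rw [orderOf_mk, orderOf_injective ι hι] at hl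
    have h2 := orderOf_dvd_natCard e
    rw [hl, hcardE] at h2
    rcases Nat.eq_zero_or_pos l with rfl | hlpos
    · exact he (orderOf_eq_one_iff.1 (by rw [hl, pow_zero]))
    · exact hFp ((dvd_pow_self p hlpos.ne').trans h2)
  haveI : Nontrivial ↥D := (nontrivial_iff_ne_bot D).2 hD
  have hoddE : Odd (Nat.card ↥E) :=
    hodd.of_dvd_nat (Nat.card_congr (Equiv.ofInjective ι hι) ▸ card_subgroup_dvd_card ι.range)
  haveI : IsZGroup ↥E := by
    refine ⟨fun s hs S => ?_⟩
    haveI := Fact.mk hs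
    rcases CfsgLib.Structure81.isCyclic_or_quaternion_of_fpf S.isPGroup'
      (hfpf.comp (S : Subgroup ↥E).subtype (S : Subgroup ↥E).subtype_injective) with h | ⟨n, ⟨φ⟩⟩
    · exact h
    · exfalso
      have h1 : Nat.card ↥(S : Subgroup ↥E) = 4 * 2 ^ n := by
        rw [Nat.card_congr φ.toEquiv, Nat.card_eq_fintype_card, QuaternionGroup.card]
      have h2 : Odd (4 * 2 ^ n) := h1 ▸ hoddE.of_dvd_nat (card_subgroup_dvd_card _)
      exact Nat.not_even_iff_odd.2 h2 ⟨2 * 2 ^ n, by ring⟩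
  haveI : IsCyclic ↥F := isCyclic_of_surjective g hgs
  -- the quotient by the Fitting subgroup is abelian
  have hab : ∀ α β : MulAut ↥F, α * β = β * α := fun α β => by
    obtain ⟨m, hm⟩ := MonoidHom.map_cyclic α.toMonoidHom
    obtain ⟨n, hn⟩ := MonoidHom.map_cyclic β.toMonoidHom
    have hm' : ∀ z, α z = z ^ m := hm
    have hn' : ∀ z, β z = z ^ n := hn
    ext z
    simp only [MulAut.mul_apply, hm', hn', ← zpow_mul]
    rw [mul_comm m n]
  have hcomm : commutator (X ⧸ D) ≤ F := by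
    refine le_trans ?_ CfsgLib.Fitting.centralizer_fitting_le
    rw [commutator_def, commutator_le]
    intro a _ b _
    rw [mem_centralizer_iff]
    intro f hf
    have h1 : (MulAut.conjNormal (H := F)) ⁅a, b⁆ = 1 := by
      rw [map_commutatorElement, commutatorElement_eq_one_iff_mul_comm]
      exact hab _ _
    have h2 := congrArg Subtype.val (congrArg (fun φ : MulAut ↥F => φ ⟨f, hf⟩) h1)
    simp only [MulAut.one_apply, MulAut.conjNormal_apply] at h2
    exact (mul_inv_eq_iff_eq_mul.1 h2).symm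
  have hPF : (P : Subgroup X).map (QuotientGroup.mk' D) ≤ F :=
    le_trans (map_mono hle) (le_trans (by
      rw [commutator_def, map_commutator, commutator_def]
      exact commutator_mono le_top le_top) hcomm)
  have hPD : (P : Subgroup X) ≤ D := by
    intro x hx
    rw [← QuotientGroup.eq_one_iff (N := D)]
    have hxm : QuotientGroup.mk' D x ∈ (P : Subgroup X).map (QuotientGroup.mk' D) :=
      ⟨x, hx, rfl⟩
    obtain ⟨k, hk⟩ := IsPGroup.iff_orderOf.1 (P.isPGroup'.map (QuotientGroup.mk' D)) ⟨_, hxm⟩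
    rw [orderOf_mk] at hk
    have h1 := orderOf_dvd_natCard (⟨_, hPF hxm⟩ : ↥F)
    rw [orderOf_mk, hk] at h1
    rcases Nat.eq_zero_or_pos k with rfl | hkpos
    · rw [pow_zero, orderOf_eq_one_iff] at hk
      exact hk
    · exact absurd ((dvd_pow_self p hkpos.ne').trans h1) hFp
  exact hP ((le_antisymm hPD (CfsgLib.Fitting.pCore_le_sylow P)) ▸ inferInstance)

theorem lt_inf_normalizer {G : Type u} [Group G] [Finite G] {p : ℕ} [Fact p.Prime]
    {K P : Subgroup G} (hP : IsPGroup p ↥P) (h : K < P) : K < P ⊓ normalizer (K : Set G) := by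
  haveI : Group.IsNilpotent ↥P := hP.isNilpotent
  have hlt : K.subgroupOf P < ⊤ := lt_top_iff_ne_top.2 fun h' => h.not_ge (subgroupOf_eq_top.1 h')
  obtain ⟨t, ht, htn⟩ := SetLike.exists_of_lt (Group.normalizerCondition_of_isNilpotent _ hlt)
  refine lt_of_le_of_ne (le_inf h.le Subgroup.le_normalizer) fun heq => htn (mem_subgroupOf.2 ?_)
  rw [heq]
  refine ⟨t.2, mem_normalizer_iff.2 fun y => ?_⟩
  have h1 := mem_normalizer_iff.1 ht
  constructor
  · intro hy
    exact (h1 ⟨y, h.le hy⟩).1 hy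
  · intro hy
    have hyP : y ∈ P := by
      have := P.mul_mem (P.mul_mem (P.inv_mem t.2) (h.le hy)) t.2
      simpa [mul_assoc] using this
    exact (h1 ⟨y, hyP⟩).2 hy

/-- In a minimal simple group of odd order in which the centralizers of non-identity `p`-elements
are `p`-groups, distinct Sylow `p`-subgroups meet trivially. -/
theorem sylow_inf_eq_bot {G : Type u} [Group G] [Finite G] (hG : Cfsg.IsMinSimpleOddOrder G)
    {p : ℕ} [hp : Fact p.Prime] (hp2 : p ≠ 2)
    (hC : ∀ d : G, d ≠ 1 → (∃ k, orderOf d = p ^ k) →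
      IsPGroup p ↥(centralizer ({d} : Set G)))
    (P Q : Sylow p G) (hPQ : P ≠ Q) : (P : Subgroup G) ⊓ Q = ⊥ := by
  classical
  by_contra hne
  -- a local subgroup with several Sylow subgroups
  obtain ⟨⟨P₁, Q₁⟩, ⟨hPQ₁, hne₁⟩, hmax⟩ :=
    (Set.toFinite {x : Sylow p G × Sylow p G | x.1 ≠ x.2 ∧ (x.1 : Subgroup G) ⊓ x.2 ≠ ⊥})
      |>.exists_maximalFor (fun x => Nat.card ↥((x.1 : Subgroup G) ⊓ x.2)) _ ⟨(P, Q), hPQ, hne⟩
  set D := (P₁ : Subgroup G) ⊓ Q₁
  have hDp : IsPGroup p ↥D := P₁.isPGroup'.to_le inf_le_left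
  have hfam : ¬ Subsingleton (Sylow p ↥(normalizer (D : Set G))) := by
    intro hsub
    obtain ⟨S⟩ : Nonempty (Sylow p ↥(normalizer (D : Set G))) := inferInstance
    obtain ⟨T, hT⟩ := (S.isPGroup'.map (normalizer (D : Set G)).subtype).exists_le_sylow
    have key : ∀ R : Sylow p G, D ≤ (R : Subgroup G) → D ≠ (R : Subgroup G) → R = T := by
      intro R hDR hDne
      have hlt := lt_inf_normalizer R.isPGroup' (lt_of_le_of_ne hDR hDne)
      set U := (R : Subgroup G) ⊓ normalizer (D : Set G)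
      obtain ⟨S', hS'⟩ := ((R.isPGroup'.to_le (inf_le_left : U ≤ R)).comap_of_injective
        (normalizer (D : Set G)).subtype Subtype.val_injective).exists_le_sylow
      have hUT : U ≤ (T : Subgroup G) := by
        intro y hy
        refine hT ⟨⟨y, hy.2⟩, ?_, rfl⟩
        rw [Subsingleton.elim S S']
        exact hS' hy
      by_contra hRT
      have h1 : D < (R : Subgroup G) ⊓ T := hlt.trans_le (le_inf inf_le_left hUT)
      have h2 := hmax (j := (R, T)) ⟨hRT, (bot_le.trans_lt h1).ne'⟩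
        (Subgroup.card_le_of_le h1.le)
      exact h1.ne (eq_of_le_of_card_ge h1.le h2)
    have hneP : D ≠ (P₁ : Subgroup G) := fun h => hPQ₁ (Sylow.ext (P₁.is_maximal' Q₁.isPGroup'
      (h ▸ inf_le_right)).symm)
    have hneQ : D ≠ (Q₁ : Subgroup G) := fun h => hPQ₁ (Sylow.ext (Q₁.is_maximal' P₁.isPGroup'
      (h ▸ inf_le_left)))
    exact hPQ₁ ((key P₁ inf_le_left hneP).trans (key Q₁ inf_le_right hneQ).symm)
  -- choose one with Sylow subgroups as large as possible
  obtain ⟨R, ⟨hRp, hR1, hRfam⟩, hRmax⟩ :=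
    (Set.toFinite {R : Subgroup G | IsPGroup p ↥R ∧ R ≠ ⊥ ∧
      ¬ Subsingleton (Sylow p ↥(normalizer (R : Set G)))}).exists_maximalFor
      (fun R : Subgroup G => (Nat.card ↥(normalizer (R : Set G))).factorization p) _ ⟨D, hDp, hne₁, hfam⟩
  set N := normalizer (R : Set G) with hN
  have hNtop : N ≠ ⊤ := CfsgLib.OddOrder.minSimple_normalizer_ne_top hG hR1
    (CfsgLib.OddOrder.minSimple_pgroup_ne_top hG hRp)
  haveI := CfsgLib.OddOrder.minSimple_solvable hG hNtop
  have hoddN := CfsgLib.OddOrder.minSimple_odd hG N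
  set R' := R.subgroupOf N
  haveI : R'.Normal := Subgroup.normal_in_normalizer
  have hR'p : IsPGroup p ↥R' := hRp.comap_of_injective N.subtype N.subtype_injective
  have hO : Cfsg.pPrimeCore p ↥N = ⊥ := by
    rw [eq_bot_iff]
    intro y hy
    obtain ⟨r, hr, hr1⟩ := (bot_or_exists_ne_one R).resolve_left hR1
    have hdisj : Disjoint R' (Cfsg.pPrimeCore p ↥N) := by
      rw [disjoint_iff]
      obtain ⟨k, hk⟩ := IsPGroup.iff_card.1 hR'p
      refine inf_eq_bot_of_coprime ?_
      rw [hk]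
      exact (CfsgLib.PCore.pPrimeCore_coprime.symm).pow_left k
    have hry : Commute (⟨r, Subgroup.le_normalizer hr⟩ : ↥N) y :=
      commute_of_normal_of_disjoint _ _ inferInstance inferInstance hdisj _ _
        (mem_subgroupOf.2 hr) hy
    obtain ⟨k, hk⟩ := IsPGroup.iff_orderOf.1 hRp ⟨r, hr⟩
    obtain ⟨l, hl⟩ := IsPGroup.iff_orderOf.1 (hC r hr1 ⟨k, by rwa [orderOf_mk] at hk⟩)
      ⟨(y : G), mem_centralizer_singleton_iff.2 (congrArg Subtype.val hry.eq).symm⟩
    rw [orderOf_mk, orderOf_coe] at hl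
    have h1 : orderOf y ∣ Nat.card ↥(Cfsg.pPrimeCore p ↥N) := orderOf_dvd_natCard _ hy
    have h2 : (orderOf y).Coprime p := CfsgLib.PCore.pPrimeCore_coprime.coprime_dvd_left h1
    rw [hl] at h2
    rcases Nat.eq_zero_or_pos l with rfl | hlpos
    · exact mem_bot.2 (orderOf_eq_one_iff.1 (by rw [hl, pow_zero]))
    · exact absurd (Nat.Coprime.coprime_dvd_left (dvd_pow_self p hlpos.ne') h2)
        (fun h => hp.out.ne_one ((Nat.coprime_self p).1 h))
  obtain ⟨S⟩ : Nonempty (Sylow p ↥N) := inferInstance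
  have hzn : (PLocal.zj 0 (S : Subgroup ↥N)).Normal :=
    PLocal.zj_normal hp2 (Or.inl rfl)
      (CfsgLib.PCore.centralizer_pCore_le CfsgLib.PCore.isPSolvable_of_isSolvable hO)
      (fun V _ hV => CfsgLib.OddOrder.isPStableOn_of_odd hoddN V hV) S
  set S' := (S : Subgroup ↥N).map N.subtype with hS'
  have hS'p : IsPGroup p ↥S' := S.isPGroup'.map _
  have hRS : R ≤ S' := fun r hr => ⟨⟨r, Subgroup.le_normalizer hr⟩,
    (CfsgLib.Fitting.le_pCore inferInstance hR'p).trans (CfsgLib.Fitting.pCore_le_sylow S)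
      (mem_subgroupOf.2 hr), rfl⟩
  set Z := PLocal.zj 0 S' with hZdef
  have hZ1 : Z ≠ ⊥ := CfsgLib.OddOrder.zj_ne_bot hS'p fun h => hR1 (le_bot_iff.1 (h ▸ hRS))
  have hZp : IsPGroup p ↥Z := hS'p.to_le (PLocal.zj_le 0 _)
  set M := normalizer (Z : Set G) with hM
  have hNM : N ≤ M := by
    intro n hn
    rw [hM, mem_normalizer_iff]
    have hmap : Z = (PLocal.zj 0 (S : Subgroup ↥N)).map N.subtype :=
      PLocal.zj_map N.subtype_injective _
    intro y
    rw [hmap]
    constructor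
    · rintro ⟨w, hw, rfl⟩
      exact ⟨⟨n, hn⟩ * w * ⟨n, hn⟩⁻¹, hzn.conj_mem w hw _, rfl⟩
    · rintro ⟨w, hw, hwy⟩
      refine ⟨⟨n, hn⟩⁻¹ * w * ⟨n, hn⟩, hzn.conj_mem' w hw _, ?_⟩
      rw [map_mul, map_mul, hwy]
      show n⁻¹ * (n * y * n⁻¹) * n = y
      group
  have hMfam : ¬ Subsingleton (Sylow p ↥M) := by
    intro hsub
    refine hRfam ⟨fun T₁ T₂ => ?_⟩
    let f : ↥N →* ↥M := Subgroup.inclusion hNM
    have hf : Function.Injective f := Subgroup.inclusion_injective hNM
    obtain ⟨U, hU⟩ := (T₁.isPGroup'.map f).exists_le_sylow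
    obtain ⟨U', hU'⟩ := (T₂.isPGroup'.map f).exists_le_sylow
    have hcp : IsPGroup p ↥((U : Subgroup ↥M).comap f) := U.isPGroup'.comap_of_injective f hf
    have h1 := T₁.is_maximal' hcp (map_le_iff_le_comap.1 hU)
    have h2 := T₂.is_maximal' hcp (map_le_iff_le_comap.1 (Subsingleton.elim U' U ▸ hU'))
    exact Sylow.ext (h1.symm.trans h2)
  have hcard : (Nat.card ↥M).factorization p ≤ (Nat.card ↥N).factorization p := by
    by_contra hlt
    exact hlt (hRmax ⟨hZp, hZ1, hMfam⟩ (le_of_not_ge hlt))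
  obtain ⟨P', hP'⟩ := hS'p.exists_le_sylow
  have hSP : S' = (P' : Subgroup G) := by
    by_contra hne'
    have hlt := lt_inf_normalizer P'.isPGroup' (lt_of_le_of_ne hP' hne')
    set T := (P' : Subgroup G) ⊓ normalizer (S' : Set G)
    have hTM : T ≤ M := inf_le_right.trans (PLocal.normalizer_le_normalizer_zj 0 S')
    obtain ⟨k, hk⟩ := IsPGroup.iff_card.1 (P'.isPGroup'.to_le (inf_le_left : T ≤ P'))
    have h1 : Nat.card ↥T ≤ Nat.card ↥S' := by
      rw [hk, hS', card_map_of_injective N.subtype_injective, S.card_eq_multiplicity]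
      refine Nat.pow_le_pow_right hp.out.pos (le_trans ?_ hcard)
      exact (hp.out.pow_dvd_iff_le_factorization Nat.card_pos.ne').1
        (hk ▸ card_dvd_of_le hTM)
    exact hlt.ne (eq_of_le_of_card_ge hlt.le h1)
  -- the final contradiction
  have hMtop : M ≠ ⊤ := CfsgLib.OddOrder.minSimple_normalizer_ne_top hG hZ1
    (CfsgLib.OddOrder.minSimple_pgroup_ne_top hG hZp)
  haveI := CfsgLib.OddOrder.minSimple_solvable hG hMtop
  have hoddM := CfsgLib.OddOrder.minSimple_odd hG M
  have hPM : (P' : Subgroup G) ≤ M := hSP ▸ PLocal.le_normalizer_zj 0 S'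
  refine not_le_commutator hoddM (p := p) ?_ ?_ (P'.subtype hPM) ?_ ?_
  · intro d hd hdo
    obtain ⟨k, hk⟩ := hdo
    refine ((hC (d : G) (fun h => hd (Subtype.ext h)) ⟨k, by rw [orderOf_coe, hk]⟩).comap_of_injective
      M.subtype M.subtype_injective).to_le fun c hc => ?_
    exact mem_centralizer_singleton_iff.2
      (congrArg Subtype.val (mem_centralizer_singleton_iff.1 hc))
  · intro h
    haveI : (Z.subgroupOf M).Normal := Subgroup.normal_in_normalizer
    have h1 := CfsgLib.Fitting.le_pCore (G := ↥M) (N := Z.subgroupOf M) inferInstance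
      (hZp.comap_of_injective M.subtype M.subtype_injective)
    rw [h, le_bot_iff, subgroupOf_eq_bot, disjoint_iff, inf_eq_left.2 Subgroup.le_normalizer] at h1
    exact hZ1 h1
  · intro hn
    letI := Sylow.unique_of_normal _ hn
    exact hMfam inferInstance
  · have h1 := CfsgLib.OddOrder.ZJFusion.le_commutator_normalizer_zj hG hp2 P'
    rw [← hSP, ← hZdef, ← hM] at h1
    intro x hx
    obtain ⟨y, hy, hyx⟩ : (x : G) ∈ (commutator ↥M).map M.subtype := by
      rw [map_subtype_commutator]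
      exact h1 (hSP ▸ hx)
    exact M.subtype_injective hyx ▸ hy

end CfsgLib.CNGroup
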