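import Cfsg.Agent.Lib.CNGroup.Maximal
import Cfsg.Agent.Lib.CNGroup.TI
import Cfsg.Agent.Lib.CNCount.Main
import Cfsg.Agent.Lib.Frobenius.Theorem

/-!
# The CN theorem of Feit, Hall and Thompson
-/

set_option autoImplicit false
set_option linter.style.haveILetI false

namespace CfsgLib.CNGroup

open Subgroup
open scoped Pointwise

universe u

variable {G : Type u} [Group G] [Finite G]

theorem MaxNilp.ne_top (hG : Cfsg.IsMinSimpleOddOrder G) {H : Subgroup G} (hH : MaxNilp H) :
    H ≠ ⊤ := by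
  haveI := hH.1
  exact CfsgLib.OddOrder.minSimple_ne_top_of_solvable hG inferInstance

/-- Maximal nilpotent subgroups are T.I. in a minimal simple CN-group of odd order. -/
theorem MaxNilp.ti (hG : Cfsg.IsMinSimpleOddOrder G) (hCN : Cfsg.IsCNGroup G) {H : Subgroup G}
    (hH : MaxNilp H) (g : G) (hg : H.map (MulAut.conj g).toMonoidHom ≠ H) :
    H ⊓ H.map (MulAut.conj g).toMonoidHom = ⊥ := by
  by_cases hpp : IsPrimePow (Nat.card ↥H)
  · obtain ⟨p, k, hp, hk, hcard⟩ := (isPrimePow_nat_iff _).1 hpp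
    haveI := Fact.mk hp
    have hpH : p ∣ Nat.card ↥H := hcard ▸ dvd_pow_self p hk.ne'
    obtain ⟨P, S, hP⟩ := hH.exists_sylow_le hCN hpH
    have hHp : IsPGroup p ↥H := IsPGroup.of_card hcard.symm
    have hHP : H = (P : Subgroup G) := P.is_maximal' hHp (hP ▸ map_subtype_le _)
    have hp2 : p ≠ 2 := CfsgLib.OddOrder.minSimple_prime_ne_two hG hpH
    have hC : ∀ d : G, d ≠ 1 → (∃ k, orderOf d = p ^ k) →
        IsPGroup p ↥(centralizer ({d} : Set G)) := by
      intro d hd hdo
      obtain ⟨a, ha⟩ := hdo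
      obtain ⟨R, hR⟩ := (IsPGroup.of_card (n := a) (G := zpowers d)
        (by rw [Nat.card_zpowers, ha])).exists_le_sylow
      obtain ⟨t, ht⟩ := MulAction.exists_smul_eq G P R
      set H' := H.map (MulAut.conj t).toMonoidHom with hH'def
      have hdH' : d ∈ H' := by
        have h1 : d ∈ (R : Subgroup G) := hR (mem_zpowers d)
        rw [← ht] at h1
        rw [hH'def, hHP]
        exact h1
      have hH' : MaxNilp H' := hH.map_conj t
      have hH'p : IsPGroup p ↥H' := hHp.map _
      obtain ⟨z, hz, hz1, hzc⟩ := exists_central_sylow hH'.1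
        (by rw [hH'def, card_map_of_injective (MulAut.conj t).injective]; exact hpH)
        (default : Sylow p ↥H')
      have hzH : z ∈ H' := map_subtype_le _ hz
      have hCn : Group.IsNilpotent ↥(centralizer ({d} : Set G)) := hCN d hd
      have hall : ∀ q : ℕ, q.Prime → q ∣ Nat.card ↥(centralizer ({d} : Set G)) → q = p := by
        intro q hq hqd
        haveI := Fact.mk hq
        by_contra hqp
        obtain ⟨y, hy⟩ := exists_prime_orderOf_dvd_card' q hqd
        have hyo : orderOf (y : G) = q := by rw [orderOf_coe, hy]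
        have h1 : Commute z (y : G) := by
          refine commute_of_mem_nilpotent hCn
            (mem_centralizer_singleton_iff.2 (hzc d hdH').eq) y.2 ?_
          obtain ⟨l, hl⟩ := orderOf_eq_pow hH'p hzH
          rw [hl, hyo]
          exact Nat.Coprime.pow_left _ ((Nat.coprime_primes hp hq).2 (Ne.symm hqp))
        have h2 : (y : G) ∈ H' :=
          (hH'.centralizer_eq hCN hz1 hzc).le (mem_centralizer_singleton_iff.2 h1.eq.symm)
        obtain ⟨l, hl⟩ := orderOf_eq_pow hH'p h2
        rw [hyo] at hl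
        exact hqp ((Nat.prime_dvd_prime_iff_eq hq hp).1 (hq.dvd_of_dvd_pow (dvd_of_eq hl)))
      exact IsPGroup.of_card (Nat.eq_prime_pow_of_unique_prime_dvd Nat.card_pos.ne'
        fun {q} hq hqd => hall q hq hqd)
    have hne : (g • P : Sylow p G) ≠ P := fun he => hg (by
      rw [hHP]
      exact congrArg (fun R : Sylow p G => (R : Subgroup G)) he)
    have h := sylow_inf_eq_bot hG hp2 hC P (g • P) hne.symm
    rw [hHP]
    exact h
  · exact hH.inf_conj_eq_bot hCN hpp hg

theorem MaxNilp.mem_normalizer_of (hG : Cfsg.IsMinSimpleOddOrder G) (hCN : Cfsg.IsCNGroup G)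
    {H : Subgroup G} (hH : MaxNilp H) {g k : G} (hk : k ∈ H) (hk1 : k ≠ 1)
    (hgk : g * k * g⁻¹ ∈ H) : g ∈ normalizer (H : Set G) := by
  have h1 : H.map (MulAut.conj g).toMonoidHom = H := by
    by_contra h
    have h2 := hH.ti hG hCN g h
    have h3 : g * k * g⁻¹ ∈ H ⊓ H.map (MulAut.conj g).toMonoidHom :=
      ⟨hgk, conj_map_mem.2 (by simpa [mul_assoc] using hk)⟩
    rw [h2, mem_bot] at h3
    exact hk1 (conj_eq_one_iff.1 h3)
  rw [mem_normalizer_iff]
  intro h
  conv_rhs => rw [← h1, conj_map_mem]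
  simp [mul_assoc]

theorem MaxNilp.lt_normalizer (hG : Cfsg.IsMinSimpleOddOrder G) (hCN : Cfsg.IsCNGroup G)
    {H : Subgroup G} (hH : MaxNilp H) : H < normalizer (H : Set G) := by
  haveI := (CfsgLib.OddOrder.minSimple_isSimple hG).toNontrivial
  refine lt_of_le_of_ne Subgroup.le_normalizer fun hN => ?_
  have hF : Cfsg.IsFrobeniusComplement H := by
    refine ⟨hH.ne_bot, hH.ne_top hG, fun g hg => eq_bot_iff.2 fun k hk => ?_⟩
    obtain ⟨hk1, hk2⟩ := mem_inf.1 hk
    rw [mem_pointwise_smul_iff_inv_smul_mem] at hk2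
    rw [mem_bot]
    by_contra hne
    refine hg ?_
    have h1 := hH.mem_normalizer_of hG hCN hk1 hne (g := g⁻¹)
      (by simpa [MulAut.smul_def, MulAut.conj_inv_apply] using hk2)
    rw [← hN] at h1
    simpa using inv_mem h1
  obtain ⟨N, -, hNn, hNc⟩ := CfsgLib.Frobenius.exists_normal_kernel hF
  rcases CfsgLib.OddOrder.minSimple_eq_bot_or_top hG hNn with h | h
  · rw [h, isComplement'_bot_left] at hNc
    exact hH.ne_top hG hNc
  · rw [h, isComplement'_top_left] at hNc
    exact hH.ne_bot hNc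

/-- Maximal nilpotent subgroups with a common non-identity element are equal. -/
theorem MaxNilp.eq_of_mem (hG : Cfsg.IsMinSimpleOddOrder G) (hCN : Cfsg.IsCNGroup G)
    {H H' : Subgroup G} (hH : MaxNilp H) (hH' : MaxNilp H') {x : G} (hx1 : x ≠ 1) (hxH : x ∈ H)
    (hxH' : x ∈ H') : H = H' := by
  obtain ⟨q, hq, hqH⟩ := Nat.exists_prime_and_dvd (n := Nat.card ↥H') (fun h => hx1 (by
    have := eq_bot_of_card_eq H' h
    rwa [this, mem_bot] at hxH'))
  haveI := Fact.mk hq
  obtain ⟨z, hz, hz1, hzc⟩ := exists_central_sylow hH'.1 hqH (default : Sylow q ↥H')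
  have hzH : z ∈ H := hH.centralizer_le hCN (hH.ti hG hCN) hxH hx1
    (mem_centralizer_singleton_iff.2 (hzc x hxH').eq)
  refine hH'.2 H hH.1 ?_
  rw [← hH'.centralizer_eq hCN hz1 hzc]
  exact hH.centralizer_le hCN (hH.ti hG hCN) hzH hz1

theorem not_minSimple_cn (hG : Cfsg.IsMinSimpleOddOrder G) : ¬ Cfsg.IsCNGroup G := by
  intro hCN
  haveI := (CfsgLib.OddOrder.minSimple_isSimple hG).toNontrivial
  let s : Setoid {H : Subgroup G // MaxNilp H} :=
    { r := fun H K => ∃ g : G, ∀ z, z ∈ H.1 ↔ g * z * g⁻¹ ∈ K.1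
      iseqv := ⟨fun H => ⟨1, fun z => by simp⟩,
        fun ⟨g, hg⟩ => ⟨g⁻¹, fun z => by rw [hg]; simp [mul_assoc]⟩,
        fun ⟨g, hg⟩ ⟨h, hh⟩ => ⟨h * g, fun z => by rw [hg, hh]; simp [mul_assoc]⟩⟩ }
  haveI : Fintype G := Fintype.ofFinite G
  haveI : Fintype (Quotient s) := Fintype.ofFinite _
  refine CfsgLib.CNCount.covering_false hG.1 (fun q : Quotient s => q.out.1) (fun q => ?_) ?_ ?_
  · exact
      { ti := fun g hg k hk hgk => by
          by_contra hk1
          exact hg (q.out.2.mem_normalizer_of hG hCN hk hk1 hgk)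
        cent := fun k hk hk1 => q.out.2.centralizer_le hCN (q.out.2.ti hG hCN) hk hk1
        lt := q.out.2.lt_normalizer hG hCN
        nilp := q.out.2.1
        ne_bot := q.out.2.ne_bot }
  · intro i j hij k hk hk1 g hgk
    refine hij ?_
    rw [← Quotient.out_eq i, ← Quotient.out_eq j]
    refine Quotient.sound ⟨g, fun z => ?_⟩
    have h1 : i.out.1.map (MulAut.conj g).toMonoidHom = j.out.1 :=
      (i.out.2.map_conj g).eq_of_mem hG hCN j.out.2 (fun h => hk1 (conj_eq_one_iff.1 h))
        (conj_map_mem.2 (by simpa [mul_assoc] using hk)) hgk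
    rw [← h1, conj_map_mem]
    simp [mul_assoc]
  · intro x hx
    letI : CommGroup ↥(zpowers x) :=
      { (inferInstance : Group ↥(zpowers x)) with mul_comm := fun a b => mul_comm' a b }
    obtain ⟨H, hH, hxH⟩ := exists_maxNilp_ge (K := zpowers x) inferInstance
    obtain ⟨g, hg⟩ := Setoid.symm (Quotient.mk_out (⟨H, hH⟩ : {H : Subgroup G // MaxNilp H}))
    exact ⟨⟦⟨H, hH⟩⟧, g, (hg x).1 (hxH (mem_zpowers x))⟩

omit [Finite G] in
theorem cn_solvable_aux (n : ℕ) : ∀ (G : Type u) [Group G] [Finite G], Nat.card G = n →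
    Odd (Nat.card G) → Cfsg.IsCNGroup G → Group.IsSolvable G := by
  induction n using Nat.strong_induction_on with
  | _ n ih =>
  intro G _ _ hn hodd hCN
  have hsub : ∀ H : Subgroup G, H ≠ ⊤ → Group.IsSolvable ↥H := by
    intro H hH
    refine ih (Nat.card ↥H) ?_ ↥H rfl (hodd.of_dvd_nat H.card_subgroup_dvd_card) (cn_subgroup hCN H)
    rw [← hn]
    rcases lt_or_eq_of_le (Nat.le_of_dvd Nat.card_pos H.card_subgroup_dvd_card) with h | h
    · exact h
    · exact absurd (H.eq_top_of_card_eq h) hH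
  by_contra hns
  haveI : Nontrivial G := by
    rcases subsingleton_or_nontrivial G with h | h
    · exact absurd (inferInstance : Group.IsSolvable G) hns
    · exact h
  have hsimple : IsSimpleGroup G := by
    refine ⟨fun B hB => ?_⟩
    by_contra hc
    push Not at hc
    obtain ⟨hBb, hBt⟩ := hc
    haveI := hB
    haveI : Group.IsSolvable ↥B := hsub B hBt
    have hlt : Nat.card (G ⧸ B) < n := by
      rw [← hn, card_eq_card_quotient_mul_card_subgroup B]
      exact lt_mul_of_one_lt_right Nat.card_pos ((one_lt_card_iff_ne_bot B).2 hBb)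
    haveI : Group.IsSolvable (G ⧸ B) := ih _ hlt (G ⧸ B) rfl (hodd.of_dvd_nat (card_quotient_dvd_card B))
      (cn_quotient _ G hCN B inferInstance rfl)
    exact hns ((Group.isSolvable_iff_subgroup_quotient B).2 ⟨inferInstance, inferInstance⟩)
  have hncomm : ¬ IsMulCommutative G := fun h =>
    hns (Group.isSolvable_of_comm fun a b => h.is_comm.comm a b)
  exact not_minSimple_cn (G := G) ⟨hodd, hsimple, hncomm, hsub⟩ hCN

end CfsgLib.CNGroup
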