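import Cfsg.Agent.Lib.CNGroup.Quotient
import Mathlib.GroupTheory.Sylow
import Mathlib.Algebra.IsPrimePow

/-!
# Maximal nilpotent subgroups of groups with nilpotent centralizers
-/

set_option autoImplicit false
set_option linter.style.haveILetI false

namespace CfsgLib.CNGroup

open Subgroup

universe u

variable {G : Type u} [Group G]

/-- A nilpotent subgroup contained in no larger nilpotent subgroup. -/
def MaxNilp (H : Subgroup G) : Prop :=
  Group.IsNilpotent ↥H ∧ ∀ L : Subgroup G, Group.IsNilpotent ↥L → H ≤ L → L = H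

theorem exists_maxNilp_ge [Finite G] {K : Subgroup G} (hK : Group.IsNilpotent ↥K) :
    ∃ H, MaxNilp H ∧ K ≤ H := by
  obtain ⟨H, ⟨hHn, hKH⟩, hmax⟩ := (Set.toFinite {L : Subgroup G | Group.IsNilpotent ↥L ∧ K ≤ L})
    |>.exists_maximal ⟨K, hK, le_rfl⟩
  exact ⟨H, ⟨hHn, fun L hL hHL => le_antisymm (hmax ⟨hL, hKH.trans hHL⟩ hHL) hHL⟩, hKH⟩

theorem MaxNilp.map_conj {H : Subgroup G} (hH : MaxNilp H) (g : G) :
    MaxNilp (H.map (MulAut.conj g).toMonoidHom) := by
  refine ⟨CfsgLib.Fitting.isNilpotent_map hH.1 _, fun L hL hle => ?_⟩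
  have h2 : L.map (MulAut.conj g⁻¹).toMonoidHom = H := hH.2 _ (CfsgLib.Fitting.isNilpotent_map hL _)
    fun h hh => ⟨g * h * g⁻¹, hle ⟨h, hh, by simp⟩, by simp [mul_assoc]⟩
  conv_rhs => rw [← h2]
  ext l
  simp [Subgroup.mem_map, mul_assoc]

theorem MaxNilp.ne_bot [Nontrivial G] {H : Subgroup G} (hH : MaxNilp H) : H ≠ ⊥ := by
  rintro rfl
  obtain ⟨x, hx⟩ := exists_ne (1 : G)
  haveI : IsMulCommutative ↥(zpowers x) := inferInstance
  letI : CommGroup ↥(zpowers x) :=
    { (inferInstance : Group ↥(zpowers x)) with mul_comm := fun a b => mul_comm' a b }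
  exact hx (zpowers_eq_bot.1 (hH.2 (zpowers x) inferInstance bot_le))

/-- An element central in a maximal nilpotent subgroup has exactly that centralizer. -/
theorem MaxNilp.centralizer_eq (hCN : Cfsg.IsCNGroup G) {H : Subgroup G} (hH : MaxNilp H) {z : G}
    (hz1 : z ≠ 1) (hz : ∀ h ∈ H, Commute z h) : centralizer ({z} : Set G) = H :=
  hH.2 _ (hCN z hz1) fun h hh => mem_centralizer_singleton_iff.2 (hz h hh).eq.symm

variable [Finite G]

theorem exists_central_in {p : ℕ} [Fact p.Prime] {Q T : Subgroup G} (hT : IsPGroup p T) (hQT : Q ≤ T)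
    (hQ : Q ≠ ⊥) (hTQ : T ≤ normalizer (Q : Set G)) :
    ∃ z ∈ Q, z ≠ 1 ∧ ∀ y ∈ T, Commute z y := by
  haveI : (Q.subgroupOf T).Normal := Subgroup.normal_subgroupOf_of_le_normalizer hTQ
  obtain ⟨z, hz, hz1, hzc⟩ := exists_central (N := Q.subgroupOf T) (P := (⊤ : Subgroup ↥T))
    (p := p) (hT.to_subgroup ⊤) le_top
    (fun h => hQ (by rw [← Subgroup.map_subgroupOf_eq_of_le hQT, h, Subgroup.map_bot]))
  exact ⟨z, hz, fun h => hz1 (Subtype.ext h),
    fun y hy => congrArg Subtype.val (hzc ⟨y, hy⟩ trivial).eq⟩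

/-- In a nilpotent subgroup an element of a Sylow subgroup commuting with it is central. -/
theorem commute_all {H : Subgroup G} (hH : Group.IsNilpotent ↥H) {p : ℕ} [hp : Fact p.Prime]
    (S : Sylow p ↥H) {z : G} (hzS : z ∈ (S : Subgroup ↥H).map H.subtype)
    (hzc : ∀ y ∈ (S : Subgroup ↥H).map H.subtype, Commute z y) : ∀ h ∈ H, Commute z h := by
  have hzH : z ∈ H := map_subtype_le _ hzS
  have htop : (centralizer ({z} : Set G)).subgroupOf H = ⊤ := by
    refine CfsgLib.Fitting.eq_top_of_forall_sylow_le fun s hs _ => ?_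
    haveI : Fact s.Prime := ⟨hs⟩
    by_cases hsp : s = p
    · subst hsp
      exact ⟨S, fun w hw => mem_subgroupOf.2 (mem_centralizer_singleton_iff.2
        (hzc w ⟨w, hw, rfl⟩).eq.symm)⟩
    · exact ⟨default, fun w hw => mem_subgroupOf.2 (mem_centralizer_singleton_iff.2
        (commute_of_mem_nilpotent hH hzH w.2 (coprime_of_isPGroup (Ne.symm hsp)
          (S.isPGroup'.map H.subtype) ((default : Sylow s ↥H).isPGroup'.map H.subtype) hzS
          ⟨w, hw, rfl⟩)).eq.symm)⟩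
  intro h hh
  have h1 : h ∈ centralizer ({z} : Set G) := (subgroupOf_eq_top.1 htop) hh
  exact (mem_centralizer_singleton_iff.1 h1).symm

theorem sylow_map_ne_bot {H : Subgroup G} {p : ℕ} [hp : Fact p.Prime] (hpH : p ∣ Nat.card ↥H)
    (S : Sylow p ↥H) : (S : Subgroup ↥H).map H.subtype ≠ ⊥ := fun h => by
  have h1 := S.dvd_card_of_dvd_card hpH
  rw [(map_eq_bot_iff_of_injective _ H.subtype_injective).1 h, card_bot] at h1
  exact hp.out.not_dvd_one h1

theorem map_sylow_le_normalizer {H : Subgroup G} (hH : Group.IsNilpotent ↥H) {p : ℕ}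
    [hp : Fact p.Prime] (S : Sylow p ↥H) :
    H ≤ normalizer (((S : Subgroup ↥H).map H.subtype : Subgroup G) : Set G) := by
  haveI : (S : Subgroup ↥H).Normal :=
    ((Group.isNilpotent_of_finite_tfae (G := ↥H)).out 0 3 rfl rfl).1 hH p hp S
  intro h hh
  rw [mem_normalizer_iff]
  intro y
  constructor
  · rintro ⟨w, hw, rfl⟩
    exact ⟨⟨h, hh⟩ * w * ⟨h, hh⟩⁻¹, Subgroup.Normal.conj_mem inferInstance w hw _, rfl⟩
  · rintro ⟨w, hw, hwy⟩
    refine ⟨⟨h, hh⟩⁻¹ * w * ⟨h, hh⟩, Subgroup.Normal.conj_mem' inferInstance w hw _, ?_⟩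
    rw [map_mul, map_mul, hwy]
    show h⁻¹ * (h * y * h⁻¹) * h = y
    group

/-- A non-trivial element of a Sylow subgroup of `H` central in `H`. -/
theorem exists_central_sylow {H : Subgroup G} (hH : Group.IsNilpotent ↥H) {p : ℕ}
    [hp : Fact p.Prime] (hpH : p ∣ Nat.card ↥H) (S : Sylow p ↥H) :
    ∃ z ∈ (S : Subgroup ↥H).map H.subtype, z ≠ 1 ∧ ∀ h ∈ H, Commute z h := by
  obtain ⟨z, hz, hz1, hzc⟩ := exists_central_in (S.isPGroup'.map H.subtype) le_rfl
    (sylow_map_ne_bot hpH S) Subgroup.le_normalizer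
  exact ⟨z, hz, hz1, commute_all hH S hz hzc⟩

theorem MaxNilp.exists_sylow_le (hCN : Cfsg.IsCNGroup G) {H : Subgroup G} (hH : MaxNilp H) {p : ℕ}
    [hp : Fact p.Prime] (hpH : p ∣ Nat.card ↥H) :
    ∃ (P : Sylow p G) (S : Sylow p ↥H), (P : Subgroup G) = (S : Subgroup ↥H).map H.subtype := by
  obtain ⟨S⟩ : Nonempty (Sylow p ↥H) := inferInstance
  set S' := (S : Subgroup ↥H).map H.subtype with hS'
  obtain ⟨P, hP⟩ := (show IsPGroup p ↥S' from S.isPGroup'.map _).exists_le_sylow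
  refine ⟨P, S, le_antisymm ?_ hP⟩
  by_contra hnle
  haveI : Group.IsNilpotent ↥(P : Subgroup G) := P.isPGroup'.isNilpotent
  have hlt : S'.subgroupOf (P : Subgroup G) < ⊤ :=
    lt_top_iff_ne_top.2 fun h => hnle (subgroupOf_eq_top.1 h)
  obtain ⟨t, ht, htn⟩ := SetLike.exists_of_lt (Group.normalizerCondition_of_isNilpotent _ hlt)
  set T := (P : Subgroup G) ⊓ normalizer (S' : Set G)
  have htT : (t : G) ∈ T := by
    refine ⟨t.2, mem_normalizer_iff.2 fun y => ?_⟩
    have h1 := mem_normalizer_iff.1 ht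
    constructor
    · intro hy
      exact (h1 ⟨y, hP hy⟩).1 hy
    · intro hy
      have hyP : y ∈ (P : Subgroup G) := by
        have := (P : Subgroup G).mul_mem ((P : Subgroup G).mul_mem
          ((P : Subgroup G).inv_mem t.2) (hP hy)) t.2
        simpa [mul_assoc] using this
      exact (h1 ⟨y, hyP⟩).2 hy
  have hTp : IsPGroup p ↥T := P.isPGroup'.to_le inf_le_left
  have hST : S' ≤ T := le_inf hP Subgroup.le_normalizer
  obtain ⟨z, hz, hz1, hzc⟩ := exists_central_in hTp hST (sylow_map_ne_bot hpH S) inf_le_right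
  have hC := hH.centralizer_eq hCN hz1 (commute_all hH.1 S hz fun y hy => hzc y (hST hy))
  have hTH : T ≤ H := fun y hy => hC ▸ mem_centralizer_singleton_iff.2 (hzc y hy).eq.symm
  have hle : T.subgroupOf H = (S : Subgroup ↥H) :=
    S.is_maximal' (hTp.comap_of_injective H.subtype H.subtype_injective)
      (fun w hw => hST ⟨w, hw, rfl⟩)
  apply htn
  have h2 : (⟨t, hTH htT⟩ : ↥H) ∈ (S : Subgroup ↥H) := hle ▸ (mem_subgroupOf.2 htT)
  exact mem_subgroupOf.2 ⟨_, h2, rfl⟩

theorem MaxNilp.coprime_index (hCN : Cfsg.IsCNGroup G) {H : Subgroup G} (hH : MaxNilp H) :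
    (Nat.card ↥H).Coprime H.index := by
  by_contra h
  obtain ⟨q, hq, hqH, hqi⟩ := Nat.Prime.not_coprime_iff_dvd.1 h
  haveI := Fact.mk hq
  obtain ⟨P, S, hP⟩ := hH.exists_sylow_le hCN hqH
  exact P.not_dvd_index (hqi.trans (index_dvd_of_le (hP ▸ map_subtype_le _)))

theorem conj_map_mem {H : Subgroup G} {g x : G} :
    x ∈ H.map (MulAut.conj g).toMonoidHom ↔ g⁻¹ * x * g ∈ H := by
  constructor
  · rintro ⟨h, hh, rfl⟩
    simpa [mul_assoc] using hh
  · exact fun h => ⟨_, h, by simp [mul_assoc]⟩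

/-- Distinct maximal nilpotent subgroups meet in a `p`-group only if both are `p`-groups. -/
theorem MaxNilp.eq_of_common (hCN : Cfsg.IsCNGroup G) {H H' : Subgroup G} (hH : MaxNilp H)
    (hH' : MaxNilp H') {x : G} {p q : ℕ} [hp : Fact p.Prime] [hq : Fact q.Prime] (hpq : p ≠ q)
    (hx : orderOf x = p) (hxH : x ∈ H) (hxH' : x ∈ H') (hqH : q ∣ Nat.card ↥H)
    (hqH' : q ∣ Nat.card ↥H') : H = H' := by
  obtain ⟨P, S, hP⟩ := hH.exists_sylow_le hCN hqH
  obtain ⟨P', S', hP'⟩ := hH'.exists_sylow_le hCN hqH'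
  have hx1 : x ≠ 1 := fun h => hp.out.ne_one (by rw [← hx, h, orderOf_one])
  have hPC : ∀ {K : Subgroup G}, MaxNilp K → x ∈ K → ∀ (R : Sylow q G), (R : Subgroup G) ≤ K →
      (R : Subgroup G) ≤ centralizer ({x} : Set G) := by
    intro K hK hxK R hRK y hy
    obtain ⟨k, hk⟩ := orderOf_eq_pow R.isPGroup' hy
    refine mem_centralizer_singleton_iff.2 (commute_of_mem_nilpotent hK.1 (hRK hy) hxK ?_).eq
    rw [hk, hx]
    exact Nat.Coprime.pow_left _ ((Nat.coprime_primes hq.out hp.out).2 hpq.symm)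
  have h1 := hPC hH hxH P (hP ▸ map_subtype_le _)
  have h2 := hPC hH' hxH' P' (hP' ▸ map_subtype_le _)
  set C := centralizer ({x} : Set G)
  haveI : Group.IsNilpotent ↥C := hCN x hx1
  have hPP : (P : Subgroup G) = P' := by
    have e : (P.subtype h1) = (P'.subtype h2) := by
      letI := Sylow.unique_of_normal _
        (((Group.isNilpotent_of_finite_tfae (G := ↥C)).out 0 3 rfl rfl).1 inferInstance q hq
          (P.subtype h1))
      exact Subsingleton.elim _ _
    have e' := congrArg (fun R : Sylow q ↥C => (R : Subgroup ↥C).map C.subtype) e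
    simpa [Sylow.coe_subtype, Subgroup.map_subgroupOf_eq_of_le, h1, h2] using e'
  obtain ⟨z, hz, hz1, hzc⟩ := exists_central_sylow hH.1 hqH S
  have hzc' : ∀ h ∈ H', Commute z h := by
    refine commute_all hH'.1 S' (by rwa [← hP', ← hPP, hP]) fun y hy => hzc y ?_
    rw [← hP', ← hPP] at hy
    exact (hP ▸ map_subtype_le _ : (P : Subgroup G) ≤ H) hy
  rw [← hH.centralizer_eq hCN hz1 hzc, hH'.centralizer_eq hCN hz1 hzc']

theorem MaxNilp.inf_conj_eq_bot (hCN : Cfsg.IsCNGroup G) {H : Subgroup G} (hH : MaxNilp H)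
    (hpp : ¬ IsPrimePow (Nat.card ↥H)) {g : G}
    (hg : H.map (MulAut.conj g).toMonoidHom ≠ H) : H ⊓ H.map (MulAut.conj g).toMonoidHom = ⊥ := by
  by_contra hne
  obtain ⟨y, hy, hy1⟩ := (bot_or_exists_ne_one _).resolve_left hne
  obtain ⟨p, hp, hpd⟩ := Nat.exists_prime_and_dvd (n := orderOf y)
    (fun h => hy1 (orderOf_eq_one_iff.1 h))
  haveI := Fact.mk hp
  set x := y ^ (orderOf y / p)
  have hx : orderOf x = p := orderOf_pow_orderOf_div (orderOf_pos y).ne' hpd
  have hxm := pow_mem hy (orderOf y / p)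
  have hpH : p ∣ Nat.card ↥H := hx ▸ orderOf_dvd_natCard H hxm.1
  obtain ⟨q, hq, hqH, hqp⟩ : ∃ q, q.Prime ∧ q ∣ Nat.card ↥H ∧ q ≠ p := by
    by_contra hc
    push Not at hc
    refine hpp ?_
    set n := Nat.card ↥H with hn
    have hcard : n = p ^ n.primeFactorsList.length :=
      Nat.eq_prime_pow_of_unique_prime_dvd Nat.card_pos.ne' (fun {d} hd hdd => hc d hd hdd)
    rw [hcard, isPrimePow_nat_iff]
    refine ⟨p, _, hp, Nat.pos_of_ne_zero fun h0 => hp.not_dvd_one ?_, rfl⟩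
    rwa [hcard, h0, pow_zero] at hpH
  haveI := Fact.mk hq
  refine hg (MaxNilp.eq_of_common hCN hH (hH.map_conj g) hqp.symm hx hxm.1 hxm.2 hqH ?_).symm
  rwa [card_map_of_injective (MulAut.conj g).injective]

theorem MaxNilp.centralizer_le (hCN : Cfsg.IsCNGroup G) {H : Subgroup G} (hH : MaxNilp H)
    (hTI : ∀ g : G, H.map (MulAut.conj g).toMonoidHom ≠ H →
      H ⊓ H.map (MulAut.conj g).toMonoidHom = ⊥) {x : G} (hx : x ∈ H) (hx1 : x ≠ 1) :
    centralizer ({x} : Set G) ≤ H := by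
  intro g hg
  rw [mem_centralizer_singleton_iff] at hg
  have hgN : g ∈ normalizer (H : Set G) := by
    have hxx : x ∈ H.map (MulAut.conj g).toMonoidHom := conj_map_mem.2 (by
      rwa [mul_assoc, ← hg, inv_mul_cancel_left])
    have h1 : H.map (MulAut.conj g).toMonoidHom = H := by
      by_contra h
      have h2 := hTI g h
      exact hx1 (mem_bot.1 (h2 ▸ mem_inf.2 ⟨hx, hxx⟩))
    rw [mem_normalizer_iff]
    intro h
    conv_rhs => rw [← h1, conj_map_mem]
    simp [mul_assoc]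
  have hcop := hH.coprime_index hCN
  obtain ⟨q, hq, hqH⟩ := Nat.exists_prime_and_dvd (n := Nat.card ↥H) (fun h => hx1 (by
    have := (eq_bot_of_card_eq H h)
    rwa [this, mem_bot] at hx))
  haveI := Fact.mk hq
  obtain ⟨z, hz, hz1, hzc⟩ := exists_central_sylow hH.1 hqH (default : Sylow q ↥H)
  have hzH : z ∈ H := map_subtype_le _ hz
  have hv : orderOf (g ^ Nat.card ↥H) ∣ H.index := by
    rw [orderOf_dvd_iff_pow_eq_one, ← pow_mul, H.card_mul_index, pow_card_eq_one']
  have hvz : Commute (g ^ Nat.card ↥H) z := by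
    refine commute_of_mem_nilpotent (hCN x hx1)
      (pow_mem (mem_centralizer_singleton_iff.2 hg) _)
      (mem_centralizer_singleton_iff.2 (hzc x hx).eq) ?_
    exact (hcop.symm.coprime_dvd_left hv).coprime_dvd_right (orderOf_dvd_natCard H hzH)
  have hvH : g ^ Nat.card ↥H ∈ H :=
    (hH.centralizer_eq hCN hz1 hzc).le (mem_centralizer_singleton_iff.2 hvz.eq)
  set K := H.subgroupOf (normalizer (H : Set G))
  haveI : K.Normal := Subgroup.normal_in_normalizer
  have h2 : orderOf (QuotientGroup.mk (⟨g, hgN⟩ : normalizer (H : Set G)) :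
      ↥(normalizer (H : Set G)) ⧸ K) ∣ 1 := by
    rw [← hcop.gcd_eq_one]
    refine Nat.dvd_gcd ?_ ((_root_.orderOf_dvd_natCard _).trans ?_)
    · rw [orderOf_dvd_iff_pow_eq_one, ← QuotientGroup.mk_pow, QuotientGroup.eq_one_iff]
      exact hvH
    · rw [← index_eq_card]
      exact relIndex_dvd_index_of_le Subgroup.le_normalizer
  exact mem_subgroupOf.1 ((QuotientGroup.eq_one_iff _).1 (orderOf_eq_one_iff.1 (Nat.dvd_one.1 h2)))

end CfsgLib.CNGroup
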