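import Cfsg.Prelude.Def_LieExceptional
import Cfsg.Agent.Lib.OddChar.CoprimeCoset
import Cfsg.Agent.Lib.Solvable.Fitting
import Cfsg.Agent.Lib.Solvable.NilpotentSubgroups
import Cfsg.Agent.Lib.Spectrum.Solvable
import Cfsg.Agent.Lib.OddOrder.PuigSeries

/-!
# Groups with nilpotent centralizers: subgroups and quotients
-/

set_option autoImplicit false
set_option linter.style.haveILetI false

namespace CfsgLib.CNGroup

open Subgroup

universe u

variable {G : Type u} [Group G]

theorem cn_subgroup (hCN : Cfsg.IsCNGroup G) (H : Subgroup G) : Cfsg.IsCNGroup ↥H := by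
  intro x hx
  have h := hCN (x : G) fun h => hx (Subtype.ext h)
  suffices h' : Group.IsNilpotent ↥((centralizer ({x} : Set ↥H)).map H.subtype) by
    exact Group.nilpotent_of_mulEquiv
      (Subgroup.equivMapOfInjective _ H.subtype H.subtype_injective).symm
  refine CfsgLib.Fitting.isNilpotent_of_le h ?_
  rintro _ ⟨y, hy, rfl⟩
  exact mem_centralizer_singleton_iff.2
    (congrArg Subtype.val (mem_centralizer_singleton_iff.1 hy))

theorem cn_of_injective {G' : Type*} [Group G'] (hCN : Cfsg.IsCNGroup G) (f : G' →* G)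
    (hf : Function.Injective f) : Cfsg.IsCNGroup G' := by
  intro x hx
  have h := hCN (f x) fun h => hx (hf (h.trans (map_one f).symm))
  suffices h' : Group.IsNilpotent ↥((centralizer ({x} : Set G')).map f) by
    exact Group.nilpotent_of_mulEquiv (Subgroup.equivMapOfInjective _ f hf).symm
  refine CfsgLib.Fitting.isNilpotent_of_le h ?_
  rintro _ ⟨y, hy, rfl⟩
  rw [mem_centralizer_singleton_iff, ← map_mul, ← map_mul, mem_centralizer_singleton_iff.1 hy]

theorem commute_of_mem_nilpotent [Finite G] {C : Subgroup G} (hC : Group.IsNilpotent ↥C) {a b : G}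
    (ha : a ∈ C) (hb : b ∈ C) (h : (orderOf a).Coprime (orderOf b)) : Commute a b := by
  have := CfsgLib.NilpotentSubgroups.commute_of_orderOf_coprime (x := (⟨a, ha⟩ : C)) (y := ⟨b, hb⟩)
    (by rwa [orderOf_mk, orderOf_mk])
  exact congrArg Subtype.val this.eq

theorem orderOf_eq_pow {p : ℕ} [Fact p.Prime] {P : Subgroup G} (hP : IsPGroup p P) {x : G}
    (hx : x ∈ P) : ∃ k, orderOf x = p ^ k := by
  obtain ⟨k, hk⟩ := IsPGroup.iff_orderOf.1 hP ⟨x, hx⟩
  exact ⟨k, by rwa [orderOf_mk] at hk⟩

theorem coprime_of_isPGroup {p r : ℕ} [hp : Fact p.Prime] [hr : Fact r.Prime] (hpr : p ≠ r)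
    {P R : Subgroup G} (hP : IsPGroup p P) (hR : IsPGroup r R) {x y : G} (hx : x ∈ P)
    (hy : y ∈ R) : (orderOf x).Coprime (orderOf y) := by
  obtain ⟨k, hk⟩ := orderOf_eq_pow hP hx
  obtain ⟨l, hl⟩ := orderOf_eq_pow hR hy
  rw [hk, hl]
  exact Nat.Coprime.pow k l ((Nat.coprime_primes hp.out hr.out).2 hpr)

/-- A non-trivial normal `p`-subgroup meets the centre of every `p`-subgroup containing it. -/
theorem exists_central [Finite G] {p : ℕ} [Fact p.Prime] {N P : Subgroup G} [N.Normal]
    (hP : IsPGroup p P) (hNP : N ≤ P) (hN : N ≠ ⊥) :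
    ∃ z ∈ N, z ≠ 1 ∧ ∀ y ∈ P, Commute z y := by
  haveI : Group.IsNilpotent ↥P := hP.isNilpotent
  haveI : (N.subgroupOf P).Normal := inferInstance
  have hne : N.subgroupOf P ≠ ⊥ := fun h => hN (by
    rw [← Subgroup.map_subgroupOf_eq_of_le hNP, h, Subgroup.map_bot])
  obtain ⟨z, hz, hz1⟩ := (bot_or_exists_ne_one _).resolve_left
    (CfsgLib.OddOrder.PuigSeries.inf_center_ne_bot (N.subgroupOf P) hne)
  exact ⟨z, hz.2, fun h => hz1 (Subtype.ext h), fun y hy =>
    (congrArg Subtype.val (mem_center_iff.1 hz.1 ⟨y, hy⟩)).symm⟩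

/-- Quotient of a CN-group by a normal abelian `p`-subgroup. -/
theorem cn_quotient_abelian [Finite G] (hCN : Cfsg.IsCNGroup G) (N : Subgroup G) [N.Normal]
    {p : ℕ} [hp : Fact p.Prime] (hNp : IsPGroup p N) (hNab : IsMulCommutative N) (hN : N ≠ ⊥) :
    Cfsg.IsCNGroup (G ⧸ N) := by
  classical
  intro x hx
  obtain ⟨r, hr, hrd⟩ := Nat.exists_prime_and_dvd (n := orderOf x)
    (fun h => hx (orderOf_eq_one_iff.1 h))
  set y : G ⧸ N := x ^ (orderOf x / r) with hy
  have hyord : orderOf y = r := by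
    rw [hy, orderOf_pow_orderOf_div (orderOf_pos x).ne' hrd]
  suffices h : Group.IsNilpotent ↥(centralizer ({y} : Set (G ⧸ N))) by
    refine CfsgLib.Fitting.isNilpotent_of_le h fun c hc => ?_
    rw [mem_centralizer_singleton_iff] at hc ⊢
    exact ((show Commute c x from hc).pow_right _).eq
  haveI : Fact r.Prime := ⟨hr⟩
  obtain ⟨m, hm⟩ := IsPGroup.iff_card.1 hNp
  obtain ⟨x₀, hx₀⟩ := QuotientGroup.mk_surjective y
  have hxr : x₀ ^ r ∈ N := by
    rw [← QuotientGroup.eq_one_iff, QuotientGroup.mk_pow, hx₀, ← hyord, pow_orderOf_eq_one]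
  have hmap : ∀ L : Subgroup G, centralizer ({y} : Set (G ⧸ N)) ≤ L.map (QuotientGroup.mk' N) →
      Group.IsNilpotent ↥L → Group.IsNilpotent ↥(centralizer ({y} : Set (G ⧸ N))) := fun L hle hL =>
    CfsgLib.Fitting.isNilpotent_of_le (CfsgLib.Fitting.isNilpotent_map hL _) hle
  by_cases hrp : r = p
  · -- the element has order `p` modulo `N`
    subst hrp
    set L := (centralizer ({y} : Set (G ⧸ N))).comap (QuotientGroup.mk' N) with hL
    have hNL : N ≤ L := fun n hn => by
      rw [hL, mem_comap, QuotientGroup.mk'_apply, (QuotientGroup.eq_one_iff n).2 hn]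
      exact one_mem _
    -- `r`-elements of `L` with `r ≠ p` centralize `N`
    have key : ∀ {s : ℕ} [Fact s.Prime], s ≠ r → ∀ (R : Subgroup G), IsPGroup s R → ∀ b ∈ R,
        b ∈ L → ∀ n ∈ N, Commute n b := by
      intro s _ hsr R hR b hbR hbL n hn
      have hcop : (orderOf b).Coprime (Nat.card N) := by
        obtain ⟨l, hl⟩ := orderOf_eq_pow hR hbR
        rw [hl, hm]
        exact Nat.Coprime.pow _ _ ((Nat.coprime_primes Fact.out hr).2 hsr)
      have hyb : x₀ * b * x₀⁻¹ * b⁻¹ ∈ N := by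
        have h1 : QuotientGroup.mk' N b * y = y * QuotientGroup.mk' N b :=
          mem_centralizer_singleton_iff.1 (mem_comap.1 hbL)
        rw [← QuotientGroup.eq_one_iff]
        simp only [QuotientGroup.mk_mul, QuotientGroup.mk_inv, hx₀]
        rw [QuotientGroup.mk'_apply] at h1
        rw [← h1]
        group
      obtain ⟨k, hk, c, hc, hcb, heq⟩ := CfsgLib.OddChar.coset_conj_centralizer N b hcop hyb
      have hcb' : orderOf (c * b) = orderOf b := by
        have h1 : orderOf (x₀ * b * x₀⁻¹) = orderOf b := (MulAut.conj x₀).orderOf_eq b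
        rw [heq] at h1
        rwa [show orderOf (k * (c * b) * k⁻¹) = orderOf (c * b) from
          (MulAut.conj k).orderOf_eq _] at h1
      have hc1 : c = 1 := by
        rw [hcb.orderOf_mul_eq_mul_orderOf_of_coprime
          (hcop.symm.coprime_dvd_left (orderOf_dvd_natCard N hc))] at hcb'
        exact orderOf_eq_one_iff.1 ((mul_eq_right₀ (orderOf_pos b).ne').1 hcb')
      rw [hc1, one_mul] at heq
      set x' := k⁻¹ * x₀ with hx'
      have hcomm : Commute x' b := by
        show k⁻¹ * x₀ * b = b * (k⁻¹ * x₀)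
        calc k⁻¹ * x₀ * b = k⁻¹ * (x₀ * b * x₀⁻¹) * x₀ := by group
          _ = _ := by rw [heq]; group
      have hx'y : (QuotientGroup.mk x' : G ⧸ N) = y := by
        rw [hx', QuotientGroup.mk_mul, QuotientGroup.mk_inv, (QuotientGroup.eq_one_iff k).2 hk,
          inv_one, one_mul, hx₀]
      have hx'1 : x' ≠ 1 := fun h => by
        rw [h, QuotientGroup.mk_one] at hx'y
        rw [← hx'y, orderOf_one] at hyord
        exact hr.ne_one hyord.symm
      have hpZ : IsPGroup r (zpowers x') := by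
        have h1 : x' ^ r ∈ N := by
          rw [← QuotientGroup.eq_one_iff, QuotientGroup.mk_pow, hx'y, ← hyord, pow_orderOf_eq_one]
        have h2 : orderOf x' ∣ r ^ (m + 1) := by
          rw [orderOf_dvd_iff_pow_eq_one, pow_succ', pow_mul, ← hm]
          exact orderOf_dvd_iff_pow_eq_one.1 (orderOf_dvd_natCard N h1)
        obtain ⟨i, -, hi⟩ := (Nat.dvd_prime_pow hr).1 h2
        exact IsPGroup.of_card (n := i) (by rw [Nat.card_zpowers, hi])
      obtain ⟨z, hzN, hz1, hzc⟩ := exists_central (hNp.to_sup_of_normal_left hpZ) le_sup_left hN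
      have hC := hCN z hz1
      have hC' := hCN x' hx'1
      have hbC' : b ∈ centralizer ({x'} : Set G) := mem_centralizer_singleton_iff.2 hcomm.eq.symm
      have hzC' : z ∈ centralizer ({x'} : Set G) := mem_centralizer_singleton_iff.2
        (hzc x' (le_sup_right (a := N) (mem_zpowers x'))).eq
      have hzb : Commute z b := commute_of_mem_nilpotent hC' hzC' hbC'
        (coprime_of_isPGroup (Ne.symm hsr) hNp hR hzN hbR)
      refine commute_of_mem_nilpotent hC ?_ (mem_centralizer_singleton_iff.2 hzb.eq.symm)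
        (coprime_of_isPGroup (Ne.symm hsr) hNp hR hn hbR)
      exact mem_centralizer_singleton_iff.2
        (congrArg Subtype.val (mul_comm' (⟨n, hn⟩ : N) ⟨z, hzN⟩))
    obtain ⟨S, hS⟩ := (hNp.comap_of_injective L.subtype L.subtype_injective).exists_le_sylow
    have hSp : IsPGroup r ((S : Subgroup ↥L).map L.subtype) := S.isPGroup'.map _
    have hNS : N ≤ (S : Subgroup ↥L).map L.subtype := fun n hn => ⟨⟨n, hNL hn⟩, hS hn, rfl⟩
    obtain ⟨z, hzN, hz1, hzc⟩ := exists_central hSp hNS hN
    refine hmap L ?_ (CfsgLib.Fitting.isNilpotent_of_le (hCN z hz1) ?_)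
    · intro c hc
      obtain ⟨g, rfl⟩ := QuotientGroup.mk_surjective c
      exact ⟨g, hc, rfl⟩
    · have htop : (centralizer ({z} : Set G)).subgroupOf L = ⊤ := by
        refine CfsgLib.Fitting.eq_top_of_forall_sylow_le fun s hs _ => ?_
        haveI : Fact s.Prime := ⟨hs⟩
        by_cases hsr : s = r
        · subst hsr
          exact ⟨S, fun w hw => mem_subgroupOf.2 (mem_centralizer_singleton_iff.2
            (hzc w ⟨w, hw, rfl⟩).eq.symm)⟩
        · exact ⟨default, fun w hw => mem_subgroupOf.2 (mem_centralizer_singleton_iff.2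
            (key hsr _ ((default : Sylow s ↥L).isPGroup'.map L.subtype) w ⟨w, hw, rfl⟩ w.2 z
              hzN).eq.symm)⟩
      exact subgroupOf_eq_top.1 htop
  · -- the element has order prime to `p` modulo `N`
    set x₁ := x₀ ^ (r ^ 0 * p ^ m) with hx₁
    have hx₁r : x₁ ^ r = 1 := by
      rw [hx₁, pow_zero, one_mul, ← pow_mul, mul_comm, pow_mul, ← hm]
      exact orderOf_dvd_iff_pow_eq_one.1 (orderOf_dvd_natCard N hxr)
    have hcop : (orderOf x₁).Coprime (Nat.card N) := by
      refine Nat.Coprime.coprime_dvd_left (orderOf_dvd_iff_pow_eq_one.2 hx₁r) ?_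
      rw [hm]
      exact Nat.Coprime.pow_right _ ((Nat.coprime_primes hr hp.out).2 hrp)
    have hne : x₁ ≠ 1 := by
      intro h
      have h1 : y ^ (p ^ m) = 1 := by
        rw [← hx₀, ← QuotientGroup.mk_pow, ← one_mul (p ^ m), ← pow_zero r, ← hx₁, h,
          QuotientGroup.mk_one]
      have h2 := orderOf_dvd_iff_pow_eq_one.2 h1
      rw [hyord] at h2
      exact hrp ((Nat.prime_dvd_prime_iff_eq hr hp.out).1 (hr.dvd_of_dvd_pow h2))
    refine hmap (centralizer ({x₁} : Set G)) ?_ (hCN x₁ hne)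
    intro c hc
    obtain ⟨g, rfl⟩ := QuotientGroup.mk_surjective c
    rw [mem_centralizer_singleton_iff] at hc
    have hg : g * x₁ * g⁻¹ * x₁⁻¹ ∈ N := by
      rw [← QuotientGroup.eq_one_iff]
      simp only [QuotientGroup.mk_mul, QuotientGroup.mk_inv, hx₁, QuotientGroup.mk_pow, hx₀]
      rw [((show Commute (g : G ⧸ N) y from hc).pow_right _).eq]
      group
    obtain ⟨k, hk, d, hd, hdx, heq⟩ := CfsgLib.OddChar.coset_conj_centralizer N x₁ hcop hg
    have hd1 : d = 1 := by
      have h1 : orderOf (d * x₁) = orderOf x₁ := by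
        have h2 : orderOf (g * x₁ * g⁻¹) = orderOf x₁ := (MulAut.conj g).orderOf_eq x₁
        rw [heq] at h2
        rwa [show orderOf (k * (d * x₁) * k⁻¹) = orderOf (d * x₁) from
          (MulAut.conj k).orderOf_eq _] at h2
      rw [hdx.orderOf_mul_eq_mul_orderOf_of_coprime
        (hcop.symm.coprime_dvd_left (orderOf_dvd_natCard N hd))] at h1
      exact orderOf_eq_one_iff.1 ((mul_eq_right₀ (orderOf_pos x₁).ne').1 h1)
    rw [hd1, one_mul] at heq
    refine ⟨k⁻¹ * g, mem_centralizer_singleton_iff.2 ?_, ?_⟩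
    · calc k⁻¹ * g * x₁ = k⁻¹ * (g * x₁ * g⁻¹) * g := by group
        _ = _ := by rw [heq]; group
    · rw [QuotientGroup.mk'_apply, QuotientGroup.mk_mul, QuotientGroup.mk_inv,
        (QuotientGroup.eq_one_iff k).2 hk, inv_one, one_mul]

/-- Quotient of a CN-group by a solvable normal subgroup. -/
theorem cn_quotient : ∀ (n : ℕ) (G : Type u) [Group G] [Finite G], Cfsg.IsCNGroup G →
    ∀ (H : Subgroup G) [H.Normal], Group.IsSolvable ↥H → Nat.card ↥H = n →
      Cfsg.IsCNGroup (G ⧸ H) := by
  intro n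
  induction n using Nat.strong_induction_on with
  | _ n ih =>
  intro G _ _ hCN H _ hH hn
  by_cases hb : H = ⊥
  · subst hb
    exact cn_of_injective hCN (QuotientGroup.quotientBot (G := G)).toMonoidHom
      (QuotientGroup.quotientBot (G := G)).injective
  obtain ⟨V, s, hs, hVn, hV, hVH, hVab, hVexp⟩ :=
    CfsgLib.Spectrum.exists_normal_elementary_le H hb hH
  haveI := hVn
  haveI : Fact s.Prime := ⟨hs⟩
  have hVp : IsPGroup s ↥V := fun v => ⟨1, Subtype.ext (by simpa using hVexp v v.2)⟩
  have hq := cn_quotient_abelian hCN V hVp hVab hV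
  set H' := H.map (QuotientGroup.mk' V) with hH'
  haveI : H'.Normal := (inferInstance : H.Normal).map _ (QuotientGroup.mk'_surjective V)
  have hH's : Group.IsSolvable ↥H' :=
    Group.isSolvable_of_surjective ((QuotientGroup.mk' V).subgroupMap_surjective H)
  have hlt : Nat.card ↥H' < n := by
    rw [← hn]
    refine lt_of_le_of_ne (Nat.card_le_card_of_surjective _
      ((QuotientGroup.mk' V).subgroupMap_surjective H)) fun heq => hV ?_
    have hinj := (((QuotientGroup.mk' V).subgroupMap_surjective H).bijective_of_nat_card_le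
      heq.ge).1
    rw [eq_bot_iff]
    intro v hv
    have h1 : (⟨v, hVH hv⟩ : H) = 1 := hinj (Subtype.ext (by
      show QuotientGroup.mk' V v = QuotientGroup.mk' V 1
      rw [map_one, QuotientGroup.mk'_apply, QuotientGroup.eq_one_iff]
      exact hv))
    exact congrArg Subtype.val h1
  exact cn_of_injective (ih _ hlt (G ⧸ V) hq H' hH's rfl)
    (QuotientGroup.quotientQuotientEquivQuotient V H hVH).symm.toMonoidHom
    (QuotientGroup.quotientQuotientEquivQuotient V H hVH).symm.injective

end CfsgLib.CNGroup
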