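import Cfsg.Agent.Lib.CNGroup.Maximal
import Cfsg.Agent.Lib.OddOrder.FittingHall
import Cfsg.Agent.Lib.Solvable.FrobeniusCenter
import Cfsg.Agent.Lib.Structure81.FPFPGroup
import Cfsg.Agent.Lib.PCore.Basic
import Mathlib.GroupTheory.SchurZassenhaus

/-!
# The structure of solvable groups with nilpotent centralizers
-/

set_option autoImplicit false
set_option linter.style.haveILetI false

namespace CfsgLib.CNGroup

open Subgroup
open scoped commutatorElement

universe u

variable {G : Type u} [Group G] [Finite G]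

theorem normal_map_sylow {C : Subgroup G} [C.Normal] (hC : Group.IsNilpotent ↥C) {p : ℕ}
    [hp : Fact p.Prime] (S : Sylow p ↥C) : ((S : Subgroup ↥C).map C.subtype).Normal := by
  haveI := Sylow.characteristic_of_normal S
    (((Group.isNilpotent_of_finite_tfae (G := ↥C)).out 0 3 rfl rfl).1 hC p hp S)
  infer_instance

theorem isFrobeniusComplement_of_fpf {K E : Subgroup G} [K.Normal] (hc : IsComplement' K E)
    (hK : K ≠ ⊥) (hE : E ≠ ⊥) (hfpf : ∀ e ∈ E, e ≠ 1 → K ⊓ centralizer ({e} : Set G) = ⊥) :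
    Cfsg.IsFrobeniusComplement E :=
  CfsgLib.Frobenius.isFrobeniusComplement_of_normal_complement hc hK hE fun h hh hne k hk hcomm =>
    mem_bot.1 (hfpf h hh hne ▸ (⟨hk, mem_centralizer_singleton_iff.2 hcomm.symm⟩ :
      k ∈ K ⊓ centralizer ({h} : Set G)))

/-- A Frobenius complement in a CN-group is nilpotent. -/
theorem isNilpotent_complement (hCN : Cfsg.IsCNGroup G) {K E : Subgroup G} [K.Normal]
    (hc : IsComplement' K E) (hK : K ≠ ⊥) (hE : E ≠ ⊥)
    (hfpf : ∀ e ∈ E, e ≠ 1 → K ⊓ centralizer ({e} : Set G) = ⊥) : Group.IsNilpotent ↥E := by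
  obtain ⟨z, hz, hz1⟩ := (bot_or_exists_ne_one _).resolve_left
    (CfsgLib.FrobeniusCenter.fpf_center_ne_bot K E hc hK hE hfpf)
  refine CfsgLib.Fitting.isNilpotent_of_le (hCN (z : G) fun h => hz1 (Subtype.ext h)) fun e he => ?_
  exact mem_centralizer_singleton_iff.2 (congrArg Subtype.val (mem_center_iff.1 hz ⟨e, he⟩))

/-- A non-nilpotent CN-group with a non-trivial normal Sylow subgroup is Frobenius. -/
theorem exists_frobenius_of_normal_sylow (hCN : Cfsg.IsCNGroup G) (hnn : ¬ Group.IsNilpotent G)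
    {p : ℕ} [hp : Fact p.Prime] (P : Sylow p G) (hP1 : (P : Subgroup G) ≠ ⊥)
    (hPn : (P : Subgroup G).Normal) :
    Cfsg.fittingHall G ≠ ⊥ ∧ Cfsg.fittingHall G ≠ ⊤ ∧
      ∃ E : Subgroup G, IsComplement' (Cfsg.fittingHall G) E ∧ E ≠ ⊥ ∧
        ∀ e ∈ E, e ≠ 1 → Cfsg.fittingHall G ⊓ centralizer ({e} : Set G) = ⊥ := by
  set H := Cfsg.fittingHall G with hH
  have hHn : Group.IsNilpotent ↥H := CfsgLib.OddOrder.fittingHall_isNilpotent
  have hcop : (Nat.card ↥H).Coprime H.index := CfsgLib.OddOrder.fittingHall_coprime_index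
  have hsyl : ∀ {q : ℕ} [Fact q.Prime] (Q : Sylow q G), (Q : Subgroup G).Normal →
      (Q : Subgroup G) ≤ H := by
    intro q _ Q hQ
    refine CfsgLib.OddOrder.le_fittingHall hQ Q.isPGroup'.isNilpotent ?_
    obtain ⟨k, hk⟩ := IsPGroup.iff_card.1 Q.isPGroup'
    rw [hk]
    exact Nat.Coprime.pow_left _ ((Fact.out : q.Prime).coprime_iff_not_dvd.2 Q.not_dvd_index)
  have hHb : H ≠ ⊥ := fun h => hP1 (le_bot_iff.1 (h ▸ hsyl P hPn))
  have hHt : H ≠ ⊤ := fun h => hnn (by
    haveI : Group.IsNilpotent ↥(⊤ : Subgroup G) := h ▸ hHn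
    exact Group.nilpotent_of_mulEquiv (topEquiv (G := G)))
  obtain ⟨E, hE⟩ := exists_right_complement'_of_coprime hcop
  have hEb : E ≠ ⊥ := fun h => hHt (by rwa [h, isComplement'_bot_right] at hE)
  refine ⟨hHb, hHt, E, hE, hEb, ?_⟩
  intro e₀ he₀ he₀1
  rw [eq_bot_iff]
  intro x₀ hx₀
  rw [mem_bot]
  by_contra hx₀1
  obtain ⟨r, hr, hrd⟩ := Nat.exists_prime_and_dvd (n := orderOf e₀)
    (fun h => he₀1 (orderOf_eq_one_iff.1 h))
  obtain ⟨q, hq, hqd⟩ := Nat.exists_prime_and_dvd (n := orderOf x₀)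
    (fun h => hx₀1 (orderOf_eq_one_iff.1 h))
  haveI := Fact.mk hr
  haveI := Fact.mk hq
  set e := e₀ ^ (orderOf e₀ / r)
  set x := x₀ ^ (orderOf x₀ / q)
  have heo : orderOf e = r := orderOf_pow_orderOf_div (orderOf_pos e₀).ne' hrd
  have hxo : orderOf x = q := orderOf_pow_orderOf_div (orderOf_pos x₀).ne' hqd
  have hxH : x ∈ H := pow_mem hx₀.1 _
  have hex : Commute x e :=
    ((show Commute x₀ e₀ from mem_centralizer_singleton_iff.1 hx₀.2).pow_left _).pow_right _
  have hrH : ¬ r ∣ Nat.card ↥H := by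
    intro hd
    have h1 : r ∣ Nat.card ↥E := heo ▸ orderOf_dvd_natCard E (pow_mem he₀ _)
    rw [← hE.symm.index_eq_card] at h1
    exact hr.ne_one (Nat.eq_one_of_dvd_coprimes hcop hd h1)
  have hqH : q ∣ Nat.card ↥H := hxo ▸ orderOf_dvd_natCard H hxH
  have hqr : q ≠ r := fun h => hrH (h ▸ hqH)
  have hx1 : x ≠ 1 := fun h => hq.ne_one (by rw [← hxo, h, orderOf_one])
  obtain ⟨z, hzS, hz1, hzc⟩ := exists_central_sylow hHn hqH (default : Sylow q ↥H)
  have hcopH : ∀ y ∈ H, (orderOf y).Coprime (orderOf e) := fun y hy => by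
    rw [heo]
    exact ((hr.coprime_iff_not_dvd.2 hrH).coprime_dvd_right (orderOf_dvd_natCard H hy)).symm
  have hez : Commute z e := commute_of_mem_nilpotent (hCN x hx1)
    (mem_centralizer_singleton_iff.2 (hzc x hxH).eq)
    (mem_centralizer_singleton_iff.2 hex.eq.symm) (hcopH z (map_subtype_le _ hzS))
  set C := centralizer (H : Set G)
  have heC : e ∈ C := mem_centralizer_iff.2 fun y hy =>
    (commute_of_mem_nilpotent (hCN z hz1) (mem_centralizer_singleton_iff.2 (hzc y hy).eq.symm)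
      (mem_centralizer_singleton_iff.2 hez.eq.symm) (hcopH y hy)).eq
  have hCn : Group.IsNilpotent ↥C := CfsgLib.Fitting.isNilpotent_of_le (hCN z hz1) fun y hy =>
    mem_centralizer_singleton_iff.2 (mem_centralizer_iff.1 hy z (map_subtype_le _ hzS)).symm
  haveI : C.Normal := inferInstance
  obtain ⟨S⟩ : Nonempty (Sylow r ↥C) := inferInstance
  have hrC : r ∣ Nat.card ↥C := heo ▸ orderOf_dvd_natCard C heC
  haveI := normal_map_sylow hCn S
  set R₀ := (S : Subgroup ↥C).map C.subtype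
  obtain ⟨R, hR⟩ := (show IsPGroup r ↥R₀ from S.isPGroup'.map _).exists_le_sylow
  obtain ⟨y, hy, hy1, hyc⟩ := exists_central R.isPGroup' hR (sylow_map_ne_bot hrC S)
  have hRC : (R : Subgroup G) ≤ C := by
    intro w hw
    refine mem_centralizer_iff.2 fun h hh => ?_
    refine (commute_of_mem_nilpotent (hCN y hy1)
      (mem_centralizer_singleton_iff.2 ?_) (mem_centralizer_singleton_iff.2 (hyc w hw).eq.symm) ?_).eq
    · exact mem_centralizer_iff.1 (map_subtype_le _ hy) h hh
    · obtain ⟨k, hk⟩ := orderOf_eq_pow R.isPGroup' hw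
      rw [hk]
      exact Nat.Coprime.pow_right _ (heo ▸ hcopH h hh)
  have hRS : (R : Subgroup G).subgroupOf C = (S : Subgroup ↥C) :=
    S.is_maximal' (R.isPGroup'.comap_of_injective C.subtype C.subtype_injective)
      fun w hw => hR ⟨w, hw, rfl⟩
  have hReq : (R : Subgroup G) = R₀ := by
    rw [← map_subgroupOf_eq_of_le hRC, hRS]
  have hRH := hsyl R (hReq ▸ inferInstance)
  exact hrH ((R.dvd_card_of_dvd_card (hrC.trans (card_subgroup_dvd_card C))).trans
    (card_dvd_of_le hRH))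

/-- A nilpotent group acting fixed-point-freely is cyclic or cyclic of odd order times a
generalized quaternion group. -/
theorem isCyclic_or_prod_of_fpf {E N : Type u} [Group E] [Finite E] [Group.IsNilpotent E] [Group N]
    [Finite N] [Nontrivial N] [MulDistribMulAction E N] (h : CfsgLib.Frobenius.IsFPF E N) :
    IsCyclic E ∨ ∃ C Q : Subgroup E, C ⊔ Q = ⊤ ∧ (∀ a ∈ C, ∀ b ∈ Q, a * b = b * a) ∧ IsCyclic C ∧
      Odd (Nat.card C) ∧ ∃ n : ℕ, Nonempty (↥Q ≃* QuaternionGroup (2 ^ n)) := by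
  have hodd : ∀ (p : ℕ) [Fact p.Prime], p ≠ 2 → ∀ (S : Subgroup E), IsPGroup p ↥S →
      IsCyclic ↥S := by
    intro p _ hp2 S hS
    rcases CfsgLib.Structure81.isCyclic_or_quaternion_of_fpf hS
      (h.comp S.subtype S.subtype_injective) with hc | ⟨n, ⟨φ⟩⟩
    · exact hc
    · exfalso
      obtain ⟨k, hk⟩ := IsPGroup.iff_card.1 hS
      have h1 : Nat.card ↥S = 4 * 2 ^ n := by
        rw [Nat.card_congr φ.toEquiv, Nat.card_eq_fintype_card, QuaternionGroup.card]
      have h2 : 2 ∣ p ^ k := hk ▸ h1 ▸ ⟨2 * 2 ^ n, by ring⟩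
      exact hp2 ((Nat.prime_dvd_prime_iff_eq Nat.prime_two Fact.out).1
        (Nat.prime_two.dvd_of_dvd_pow h2)).symm
  obtain ⟨S⟩ : Nonempty (Sylow 2 E) := inferInstance
  have huniq : ∀ (p : ℕ) [Fact p.Prime] (T : Sylow p E), Subsingleton (Sylow p E) := fun p hp T => by
    letI := Sylow.unique_of_normal T
      (((Group.isNilpotent_of_finite_tfae (G := E)).out 0 3 rfl rfl).1 inferInstance p hp T)
    infer_instance
  rcases CfsgLib.Structure81.isCyclic_or_quaternion_of_fpf S.isPGroup'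
    (h.comp (S : Subgroup E).subtype (S : Subgroup E).subtype_injective) with hc | ⟨n, hn⟩
  · left
    haveI : IsZGroup E := ⟨fun p hp T => by
      haveI := Fact.mk hp
      by_cases hp2 : p = 2
      · subst hp2
        haveI := huniq 2 S
        rw [Subsingleton.elim T S]
        exact hc
      · exact hodd p hp2 _ T.isPGroup'⟩
    infer_instance
  · right
    obtain ⟨P, C, -, hC'⟩ :=
      CfsgLib.NilpotentSubgroups.hasNormalPComplement_of_nilpotent (p := 2) (N := E)
    have hC : C.IsComplement' (S : Subgroup E) := by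
      haveI := huniq 2 S
      rwa [Subsingleton.elim S P]
    have hCodd : Odd (Nat.card ↥C) := by
      rw [Nat.odd_iff, ← Nat.two_dvd_ne_zero]
      intro hd
      rw [← hC.index_eq_card] at hd
      exact S.not_dvd_index hd
    haveI : IsZGroup ↥C := ⟨fun p hp T => by
      haveI := Fact.mk hp
      have hp2 : p ≠ 2 ∨ p = 2 := ne_or_eq p 2
      rcases hp2 with hp2 | hp2
      · haveI := hodd p hp2 ((T : Subgroup ↥C).map C.subtype) (T.isPGroup'.map _)
        exact isCyclic_of_surjective _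
          ((T : Subgroup ↥C).equivMapOfInjective _ C.subtype_injective).symm.surjective
      · subst hp2
        obtain ⟨k, hk⟩ := IsPGroup.iff_card.1 T.isPGroup'
        have h1 : Odd (2 ^ k) := hk ▸ hCodd.of_dvd_nat (card_subgroup_dvd_card _)
        rcases Nat.eq_zero_or_pos k with rfl | hk0
        · rw [pow_zero] at hk
          haveI : Subsingleton ↥(T : Subgroup ↥C) := (Nat.card_eq_one_iff_unique.1 hk).1
          infer_instance
        · exact absurd h1 (Nat.not_odd_iff_even.2 (Nat.even_pow.2 ⟨even_two, hk0.ne'⟩))⟩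
    refine ⟨C, S, hC.sup_eq_top, fun a ha b hb => ?_, inferInstance, hCodd, n, hn⟩
    refine (CfsgLib.NilpotentSubgroups.commute_of_orderOf_coprime ?_).eq
    obtain ⟨k, hk⟩ := orderOf_eq_pow S.isPGroup' hb
    rw [hk]
    exact (Nat.Coprime.pow_right _ (Nat.coprime_two_right.2 hCodd)).coprime_dvd_left
      (orderOf_dvd_natCard C ha)

end CfsgLib.CNGroup
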