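import Cfsg.Agent.Lib.CNGroup.Structure
import Cfsg.Agent.Lib.OddOrder.PiCore

/-!
# Solvable CN-groups without normal Sylow subgroups are three-step groups
-/

set_option autoImplicit false
set_option linter.style.haveILetI false

namespace CfsgLib.CNGroup

open Subgroup
open scoped commutatorElement

universe u

variable {G : Type u} [Group G] [Finite G]

/-- In a solvable CN-group without non-trivial normal Sylow subgroups `C(O_p) ≤ O_p` for the unique
prime `p` with `O_p ≠ 1`. -/
theorem centralizer_pCore_le_of_no_normal_sylow [Group.IsSolvable G] (hCN : Cfsg.IsCNGroup G)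
    (hno : ∀ (q : ℕ) [Fact q.Prime] (Q : Sylow q G), (Q : Subgroup G).Normal →
      (Q : Subgroup G) = ⊥)
    {p : ℕ} [hp : Fact p.Prime] (hD : Cfsg.pCore p G ≠ ⊥) :
    centralizer (Cfsg.pCore p G : Set G) ≤ Cfsg.pCore p G := by
  haveI : (Cfsg.pCore p G).Normal := CfsgLib.Fitting.pCore_normal p
  have hDp : IsPGroup p ↥(Cfsg.pCore p G) := CfsgLib.Fitting.pCore_isPGroup p
  obtain ⟨P⟩ : Nonempty (Sylow p G) := inferInstance
  have hDP := CfsgLib.Fitting.pCore_le_sylow P
  have hPne : (P : Subgroup G) ≠ ⊥ := fun h => hD (le_bot_iff.1 (h ▸ hDP))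
  have hF : Cfsg.fittingSubgroup G = Cfsg.pCore p G := by
    refine le_antisymm ?_ (CfsgLib.Fitting.pCore_le_fitting hp.out)
    rw [CfsgLib.Fitting.fitting_eq_iSup_pCore]
    refine iSup_le fun q => ?_
    by_cases hqp : (q : ℕ) = p
    · rw [hqp]
    by_contra hnle
    haveI : Fact (q : ℕ).Prime := ⟨Nat.prime_of_mem_primeFactors q.2⟩
    set Q := Cfsg.pCore (q : ℕ) G
    haveI : Q.Normal := CfsgLib.Fitting.pCore_normal _
    have hQp : IsPGroup (q : ℕ) ↥Q := CfsgLib.Fitting.pCore_isPGroup _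
    have hQne : Q ≠ ⊥ := fun h => hnle (h ▸ bot_le)
    obtain ⟨z, hzD, hz1, hzc⟩ := exists_central P.isPGroup' hDP hD
    obtain ⟨w, hwQ, hw1⟩ := (bot_or_exists_ne_one Q).resolve_left hQne
    have hPC : (P : Subgroup G) ≤ centralizer (Q : Set G) := by
      intro y hy
      refine mem_centralizer_iff.2 fun v hv => ?_
      refine (commute_of_mem_nilpotent (hCN z hz1) ?_
        (mem_centralizer_singleton_iff.2 (hzc y hy).eq.symm)
        (coprime_of_isPGroup hqp hQp P.isPGroup' hv hy)).eq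
      refine mem_centralizer_singleton_iff.2 ?_
      exact (commute_of_normal_of_disjoint _ _ inferInstance inferInstance
        (IsPGroup.disjoint_of_ne (q : ℕ) p hqp _ _ hQp hDp) v z hv hzD).eq
    haveI hCn : Group.IsNilpotent ↥(centralizer (Q : Set G)) :=
      CfsgLib.Fitting.isNilpotent_of_le (hCN w hw1) fun y hy =>
        mem_centralizer_singleton_iff.2 (mem_centralizer_iff.1 hy w hwQ).symm
    have hn : ((P.subtype hPC : Sylow p ↥(centralizer (Q : Set G))) :
        Subgroup ↥(centralizer (Q : Set G))).map (centralizer (Q : Set G)).subtype =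
        (P : Subgroup G) := by
      rw [Sylow.coe_subtype, map_subgroupOf_eq_of_le hPC]
    exact hPne (hno p P (hn ▸ normal_map_sylow hCn _))
  have h := CfsgLib.Fitting.centralizer_fitting_le (G := G)
  rwa [hF] at h

/-- A solvable non-trivial CN-group without non-trivial normal Sylow subgroups is a three-step
group. -/
theorem exists_threeStep [Nontrivial G] [Group.IsSolvable G] (hCN : Cfsg.IsCNGroup G)
    (hno : ∀ (q : ℕ) [Fact q.Prime] (Q : Sylow q G), (Q : Subgroup G).Normal →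
      (Q : Subgroup G) = ⊥) :
    ∃ p : ℕ, p.Prime ∧ Cfsg.IsThreeStepGroup p G := by
  obtain ⟨p, hp', -, hD⟩ := CfsgLib.Fitting.exists_pCore_ne_bot (G := G)
  haveI hp := Fact.mk hp'
  refine ⟨p, hp', hD, ?_⟩
  have hCD := centralizer_pCore_le_of_no_normal_sylow hCN hno hD
  haveI : (Cfsg.pCore p G).Normal := CfsgLib.Fitting.pCore_normal p
  set D := Cfsg.pCore p G with hDdef
  have hDp : IsPGroup p ↥D := CfsgLib.Fitting.pCore_isPGroup p
  obtain ⟨z₀, hz₀, hz₀1, hz₀c⟩ := exists_central hDp le_rfl hD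
  -- elements of order prime to `p` act fixed-point-freely on `D`
  have hfpfD : ∀ e : G, ∀ d ∈ D, d ≠ 1 → Commute e d → ¬ p ∣ orderOf e → e = 1 := by
    intro e d hd hd1 hed hpe
    have hcop : ∀ v ∈ D, (orderOf v).Coprime (orderOf e) := fun v hv => by
      obtain ⟨k, hk⟩ := orderOf_eq_pow hDp hv
      rw [hk]
      exact Nat.Coprime.pow_left _ (hp'.coprime_iff_not_dvd.2 hpe)
    have h1 : Commute z₀ e := commute_of_mem_nilpotent (hCN d hd1)
      (mem_centralizer_singleton_iff.2 (hz₀c d hd).eq)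
      (mem_centralizer_singleton_iff.2 hed.eq) (hcop z₀ hz₀)
    have h2 : e ∈ D := hCD (mem_centralizer_iff.2 fun v hv =>
      (commute_of_mem_nilpotent (hCN z₀ hz₀1) (mem_centralizer_singleton_iff.2 (hz₀c v hv).eq.symm)
        (mem_centralizer_singleton_iff.2 h1.eq.symm) (hcop v hv)).eq)
    by_contra he1
    obtain ⟨k, hk⟩ := orderOf_eq_pow hDp h2
    rcases Nat.eq_zero_or_pos k with rfl | hk0
    · exact he1 (orderOf_eq_one_iff.1 (by rw [hk, pow_zero]))
    · exact hpe (hk ▸ dvd_pow_self p hk0.ne')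
  -- centralizers of `p`-elements in the quotient are `p`-groups
  have hpel : ∀ x : G ⧸ D, x ≠ 1 → (∃ k, orderOf x = p ^ k) → ∀ y : G ⧸ D, Commute x y →
      ∀ r : ℕ, r.Prime → orderOf y = r → r = p := by
    intro x hx hxo y hxy r hr hyr
    by_contra hrp
    haveI := Fact.mk hr
    obtain ⟨m, hm⟩ := IsPGroup.iff_card.1 hDp
    obtain ⟨y₀, hy₀⟩ := QuotientGroup.mk_surjective y
    have hyrD : y₀ ^ r ∈ D := by
      rw [← QuotientGroup.eq_one_iff, QuotientGroup.mk_pow, hy₀, ← hyr, pow_orderOf_eq_one]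
    set b := y₀ ^ (p ^ m) with hb
    have hbr : b ^ r = 1 := by
      rw [hb, ← pow_mul, mul_comm, pow_mul, ← hm]
      exact orderOf_dvd_iff_pow_eq_one.1 (orderOf_dvd_natCard D hyrD)
    have hbne : (QuotientGroup.mk b : G ⧸ D) ≠ 1 := fun h => by
      rw [hb, QuotientGroup.mk_pow, hy₀, ← orderOf_dvd_iff_pow_eq_one, hyr] at h
      exact hrp ((Nat.prime_dvd_prime_iff_eq hr hp').1 (hr.dvd_of_dvd_pow h))
    have hcop : (orderOf b).Coprime (Nat.card D) := by
      refine Nat.Coprime.coprime_dvd_left (orderOf_dvd_iff_pow_eq_one.2 hbr) ?_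
      rw [hm]
      exact Nat.Coprime.pow_right _ ((Nat.coprime_primes hr hp').2 hrp)
    obtain ⟨x₀, hx₀⟩ := QuotientGroup.mk_surjective x
    have hxb : x₀ * b * x₀⁻¹ * b⁻¹ ∈ D := by
      rw [← QuotientGroup.eq_one_iff]
      simp only [QuotientGroup.mk_mul, QuotientGroup.mk_inv, hb, QuotientGroup.mk_pow, hy₀, hx₀]
      rw [(hxy.pow_right _).eq]
      group
    obtain ⟨k, hk, c, hc, hcb, heq⟩ := CfsgLib.OddChar.coset_conj_centralizer D b hcop hxb
    have hc1 : c = 1 := by
      have h1 : orderOf (x₀ * b * x₀⁻¹) = orderOf b := (MulAut.conj x₀).orderOf_eq b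
      rw [heq, show orderOf (k * (c * b) * k⁻¹) = orderOf (c * b) from
        (MulAut.conj k).orderOf_eq _, hcb.orderOf_mul_eq_mul_orderOf_of_coprime
        (hcop.symm.coprime_dvd_left (orderOf_dvd_natCard D hc))] at h1
      exact orderOf_eq_one_iff.1 ((mul_eq_right₀ (orderOf_pos b).ne').1 h1)
    rw [hc1, one_mul] at heq
    set x' := k⁻¹ * x₀ with hx'
    have hcomm : Commute x' b := by
      show k⁻¹ * x₀ * b = b * (k⁻¹ * x₀)
      calc k⁻¹ * x₀ * b = k⁻¹ * (x₀ * b * x₀⁻¹) * x₀ := by group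
        _ = _ := by rw [heq]; group
    have hx'x : (QuotientGroup.mk x' : G ⧸ D) = x := by
      rw [hx', QuotientGroup.mk_mul, QuotientGroup.mk_inv, (QuotientGroup.eq_one_iff k).2 hk,
        inv_one, one_mul, hx₀]
    have hx'1 : x' ≠ 1 := fun h => hx (by rw [← hx'x, h, QuotientGroup.mk_one])
    have hpZ : IsPGroup p (zpowers x') := by
      obtain ⟨a, ha⟩ := hxo
      have h1 : x' ^ (p ^ a) ∈ D := by
        rw [← QuotientGroup.eq_one_iff, QuotientGroup.mk_pow, hx'x, ← ha, pow_orderOf_eq_one]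
      have h2 : orderOf x' ∣ p ^ (a + m) := by
        rw [orderOf_dvd_iff_pow_eq_one, pow_add, pow_mul, ← hm]
        exact orderOf_dvd_iff_pow_eq_one.1 (orderOf_dvd_natCard D h1)
      obtain ⟨i, -, hi⟩ := (Nat.dvd_prime_pow hp').1 h2
      exact IsPGroup.of_card (n := i) (by rw [Nat.card_zpowers, hi])
    obtain ⟨z, hzD, hz1, hzc⟩ := exists_central (hDp.to_sup_of_normal_left hpZ) le_sup_left hD
    have hzb : Commute z b := commute_of_mem_nilpotent (hCN x' hx'1)
      (mem_centralizer_singleton_iff.2 (hzc x' (le_sup_right (a := D) (mem_zpowers x'))).eq)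
      (mem_centralizer_singleton_iff.2 hcomm.eq.symm)
      (hcop.symm.coprime_dvd_left (orderOf_dvd_natCard D hzD))
    refine hbne ?_
    rw [hfpfD b z hzD hz1 hzb.symm fun hd => hrp ?_, QuotientGroup.mk_one]
    exact ((Nat.prime_dvd_prime_iff_eq hp' hr).1
      (hd.trans (orderOf_dvd_iff_pow_eq_one.2 hbr))).symm
  have hpgrp : ∀ x : G ⧸ D, x ≠ 1 → (∃ k, orderOf x = p ^ k) →
      IsPGroup p ↥(centralizer ({x} : Set (G ⧸ D))) := by
    intro x hx hxo
    refine IsPGroup.of_card (Nat.eq_prime_pow_of_unique_prime_dvd Nat.card_pos.ne'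
      fun {r} hr hrd => ?_)
    haveI := Fact.mk hr
    obtain ⟨y, hy⟩ := exists_prime_orderOf_dvd_card' r hrd
    exact hpel x hx hxo y (mem_centralizer_singleton_iff.1 y.2).symm r hr
      (by rw [orderOf_coe, hy])
  have hpX : p ∣ Nat.card (G ⧸ D) := by
    by_contra hpn
    obtain ⟨P⟩ : Nonempty (Sylow p G) := inferInstance
    have hle : (P : Subgroup G) ≤ D := by
      intro x hx
      rw [← QuotientGroup.eq_one_iff (N := D)]
      obtain ⟨k, hk⟩ := orderOf_eq_pow P.isPGroup' hx
      have h1 := orderOf_map_dvd (QuotientGroup.mk' D) x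
      rw [hk] at h1
      obtain ⟨i, -, hi⟩ := (Nat.dvd_prime_pow hp').1 h1
      rcases Nat.eq_zero_or_pos i with rfl | hi0
      · exact orderOf_eq_one_iff.1 (by rwa [pow_zero] at hi)
      · exact absurd ((dvd_pow_self p hi0.ne').trans (hi ▸ _root_.orderOf_dvd_natCard _)) hpn
    have heq : (P : Subgroup G) = D := le_antisymm hle (CfsgLib.Fitting.pCore_le_sylow P)
    exact hD (heq ▸ hno p P (heq ▸ inferInstance))
  set F := Cfsg.fittingSubgroup (G ⧸ D) with hFdef
  haveI : F.Normal := CfsgLib.Fitting.fitting_normal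
  have hFp : ¬ p ∣ Nat.card ↥F := by
    intro hd
    obtain ⟨S⟩ : Nonempty (Sylow p ↥F) := inferInstance
    have h1 := CfsgLib.Fitting.sylow_fitting_eq_pCore S
    rw [CfsgLib.PCore.pCore_quotient_pCore, map_eq_bot_iff_of_injective _ F.subtype_injective] at h1
    have h2 := S.dvd_card_of_dvd_card hd
    rw [h1, card_bot] at h2
    exact hp'.not_dvd_one h2
  set A := F.comap (QuotientGroup.mk' D) with hA
  let π : ↥A →* ↥F := (QuotientGroup.mk' D).subgroupComap F
  have hπ : Function.Surjective π := fun y => by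
    obtain ⟨x, hx⟩ := QuotientGroup.mk_surjective (y : G ⧸ D)
    exact ⟨⟨x, by simp [hA, hx]⟩, Subtype.ext hx⟩
  have hker : π.ker = D.subgroupOf A := by
    ext a
    rw [MonoidHom.mem_ker, mem_subgroupOf, ← QuotientGroup.eq_one_iff (N := D)]
    exact Subtype.ext_iff
  have hDA : D ≤ A := fun x hx => by
    rw [hA, mem_comap, QuotientGroup.mk'_apply, (QuotientGroup.eq_one_iff x).2 hx]
    exact one_mem _
  have hcop : (Nat.card ↥π.ker).Coprime π.ker.index := by
    rw [index_ker, MonoidHom.range_eq_top.2 hπ, card_top, hker,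
      Nat.card_congr (subgroupOfEquivOfLe hDA).toEquiv]
    obtain ⟨k, hk⟩ := IsPGroup.iff_card.1 hDp
    rw [hk]
    exact Nat.Coprime.pow_left _ (hp'.coprime_iff_not_dvd.2 hFp)
  obtain ⟨E, hE⟩ := exists_right_complement'_of_coprime hcop
  let g : ↥E →* ↥F := π.comp E.subtype
  have hgs : Function.Surjective g := by
    intro y
    obtain ⟨a, rfl⟩ := hπ y
    obtain ⟨⟨d, e⟩, hde⟩ := hE.2 a
    refine ⟨e, ?_⟩
    rw [← hde]
    show π (e : ↥A) = π ((d : ↥A) * (e : ↥A))
    rw [map_mul, MonoidHom.mem_ker.1 d.2, one_mul]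
  have hginj : Function.Injective g := by
    rw [injective_iff_map_eq_one]
    intro e he
    have h1 : (e : ↥A) ∈ π.ker ⊓ E := ⟨MonoidHom.mem_ker.2 he, e.2⟩
    rw [hE.disjoint.eq_bot, mem_bot] at h1
    exact Subtype.ext h1
  haveI : Group.IsNilpotent ↥E := by
    haveI : Group.IsNilpotent ↥F := CfsgLib.Fitting.fitting_isNilpotent
    exact Group.nilpotent_of_mulEquiv (MulEquiv.ofBijective g ⟨hginj, hgs⟩).symm
  let ι : ↥E →* G := A.subtype.comp E.subtype
  have hι : Function.Injective ι := fun a b h => Subtype.ext (Subtype.ext h)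
  have hEord : ∀ e : ↥E, ¬ p ∣ orderOf (ι e) := fun e hd => hFp (by
    rw [orderOf_injective ι hι, ← orderOf_injective g hginj] at hd
    exact hd.trans (_root_.orderOf_dvd_natCard _))
  letI : MulDistribMulAction ↥E ↥D :=
    MulDistribMulAction.compHom ↥D ((MulAut.conjNormal (H := D)).comp ι)
  have hfpf : CfsgLib.Frobenius.IsFPF ↥E ↥D := by
    intro e he v hv
    by_contra hv1
    have hv' : (MulAut.conjNormal (ι e) v : G) = v := congrArg Subtype.val hv
    rw [MulAut.conjNormal_apply] at hv'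
    exact he (hι ((hfpfD (ι e) v v.2 (fun h => hv1 (Subtype.ext h))
      (mul_inv_eq_iff_eq_mul.1 hv') (hEord e)).trans (map_one ι).symm))
  haveI : Nontrivial ↥D := (nontrivial_iff_ne_bot D).2 hD
  haveI : Nontrivial (G ⧸ D) := Finite.one_lt_card_iff_nontrivial.1
    (hp'.one_lt.trans_le (Nat.le_of_dvd Nat.card_pos hpX))
  have hFb : F ≠ ⊥ := CfsgLib.Fitting.fitting_ne_bot
  haveI : Nontrivial ↥F := (nontrivial_iff_ne_bot F).2 hFb
  haveI : Nontrivial ↥E := (MulEquiv.ofBijective g ⟨hginj, hgs⟩).toEquiv.nontrivial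
  obtain ⟨x, hx⟩ := exists_prime_orderOf_dvd_card' p hpX
  have hx1 : x ≠ 1 := fun h => hp'.ne_one (by rw [← hx, h, orderOf_one])
  -- the complement has odd order
  have hoddF : Odd (Nat.card ↥F) := by
    rw [Nat.odd_iff, ← Nat.two_dvd_ne_zero]
    intro h2
    have hp2 : p ≠ 2 := fun h => hFp (h ▸ h2)
    obtain ⟨t, ht⟩ := exists_prime_orderOf_dvd_card' 2 h2
    have huniq : ∀ s : ↥F, orderOf s = 2 → s = t := by
      intro s hs
      obtain ⟨s', rfl⟩ := hgs s
      obtain ⟨t', rfl⟩ := hgs t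
      rw [orderOf_injective g hginj] at hs ht
      have h1 : ∀ a : ↥E, orderOf a = 2 → a ≠ 1 ∧ a * a = 1 := fun a ha =>
        ⟨fun e => by rw [e, orderOf_one] at ha; omega,
          by rw [← pow_two, ← ha]; exact pow_orderOf_eq_one a⟩
      rw [hfpf.involution_unique (h1 s' hs).1 (h1 s' hs).2 (h1 t' ht).1 (h1 t' ht).2]
    have h3 : Commute x (t : G ⧸ D) := by
      have h4 := congrArg Subtype.val (huniq (MulAut.conjNormal x t)
        ((MulEquiv.orderOf_eq _ t).trans ht))
      rw [MulAut.conjNormal_apply] at h4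
      exact mul_inv_eq_iff_eq_mul.1 h4
    exact hp2 (hpel x hx1 ⟨1, by rw [hx, pow_one]⟩ t h3 2 Nat.prime_two
      (by rw [orderOf_coe, ht])).symm
  haveI : IsCyclic ↥E := by
    rcases isCyclic_or_prod_of_fpf hfpf with h | ⟨C, Q, -, -, -, -, n, ⟨φ⟩⟩
    · exact h
    · exfalso
      have h1 : Nat.card ↥Q = 4 * 2 ^ n := by
        rw [Nat.card_congr φ.toEquiv, Nat.card_eq_fintype_card, QuaternionGroup.card]
      have h2 : Odd (4 * 2 ^ n) := h1 ▸ (Nat.card_eq_of_bijective g ⟨hginj, hgs⟩ ▸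
        hoddF).of_dvd_nat (card_subgroup_dvd_card Q)
      exact Nat.not_even_iff_odd.2 h2 ⟨2 * 2 ^ n, by ring⟩
  haveI : IsCyclic ↥F := isCyclic_of_surjective g hgs
  have hab : ∀ α β : MulAut ↥F, α * β = β * α := fun α β => by
    obtain ⟨m, hm⟩ := MonoidHom.map_cyclic α.toMonoidHom
    obtain ⟨n, hn⟩ := MonoidHom.map_cyclic β.toMonoidHom
    have hm' : ∀ z, α z = z ^ m := hm
    have hn' : ∀ z, β z = z ^ n := hn
    ext z
    simp only [MulAut.mul_apply, hm', hn', ← zpow_mul]
    rw [mul_comm m n]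
  have hcomm : ∀ a b : G ⧸ D, ⁅a, b⁆ ∈ F := by
    intro a b
    refine CfsgLib.Fitting.centralizer_fitting_le ?_
    rw [mem_centralizer_iff]
    intro f hf
    have h1 : (MulAut.conjNormal (H := F)) ⁅a, b⁆ = 1 := by
      rw [map_commutatorElement, commutatorElement_eq_one_iff_mul_comm]
      exact hab _ _
    have h2 := congrArg Subtype.val (congrArg (fun φ : MulAut ↥F => φ ⟨f, hf⟩) h1)
    simp only [MulAut.one_apply, MulAut.conjNormal_apply] at h2
    exact (mul_inv_eq_iff_eq_mul.1 h2).symm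
  -- the index of the Fitting subgroup is a power of `p`
  have hidx : ∃ n, F.index = p ^ n := by
    set N := normalizer (zpowers x : Set (G ⧸ D))
    have hNp : IsPGroup p ↥N := by
      refine (hpgrp x hx1 ⟨1, by rw [hx, pow_one]⟩).to_le fun y hy => ?_
      have h1 : y * x * y⁻¹ ∈ zpowers x := (mem_normalizer_iff.1 hy x).1 (mem_zpowers x)
      have h2 : ⁅y, x⁆ ∈ zpowers x := by
        rw [commutatorElement_def]
        exact mul_mem h1 (inv_mem (mem_zpowers x))
      have h3 : ⁅y, x⁆ = 1 := by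
        rw [← orderOf_eq_one_iff, ← Nat.dvd_one]
        have h4 := orderOf_dvd_natCard _ h2
        rw [Nat.card_zpowers, hx] at h4
        rw [← Nat.Coprime.gcd_eq_one (hp'.coprime_iff_not_dvd.2 hFp)]
        exact Nat.dvd_gcd h4 (orderOf_dvd_natCard F (hcomm y x))
      exact mem_centralizer_singleton_iff.2
        (commutatorElement_eq_one_iff_mul_comm.1 h3)
    set M := F ⊔ zpowers x with hM
    haveI hMn : M.Normal := ⟨fun m hm y => by
      have h1 : y * m * y⁻¹ = ⁅y, m⁆ * m := by rw [commutatorElement_def]; group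
      rw [h1]
      exact mul_mem ((le_sup_left : F ≤ M) (hcomm y m)) hm⟩
    have hdisj : F ⊓ zpowers x = ⊥ := inf_eq_bot_of_coprime (by
      rw [Nat.card_zpowers, hx]
      exact (hp'.coprime_iff_not_dvd.2 hFp).symm)
    have hcardM : Nat.card ↥M = Nat.card ↥F * p := by
      have h1 : F.relIndex (zpowers x) = p := by
        show (F.subgroupOf (zpowers x)).index = p
        rw [subgroupOf_eq_bot.2 (disjoint_iff.2 hdisj), index_bot, Nat.card_zpowers, hx]
      rw [hM, sup_comm, CfsgLib.OddOrder.card_sup_of_normal (zpowers x) F, h1, mul_comm]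
    have hxM : zpowers x ≤ M := le_sup_right
    have hcS : Nat.card ↥((zpowers x).subgroupOf M) = p ^ (Nat.card ↥M).factorization p := by
      rw [Nat.card_congr (subgroupOfEquivOfLe hxM).toEquiv, Nat.card_zpowers, hx, hcardM,
        Nat.factorization_mul Nat.card_pos.ne' hp'.ne_zero, Finsupp.add_apply,
        Nat.factorization_eq_zero_of_not_dvd hFp, hp'.factorization_self, pow_one]
    let S : Sylow p ↥M := Sylow.ofCard _ hcS
    have hmap : (S : Subgroup ↥M).map M.subtype = zpowers x := map_subgroupOf_eq_of_le hxM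
    have hF' : N ⊔ M = ⊤ := by
      have h1 := Sylow.normalizer_sup_eq_top S
      rwa [hmap] at h1
    have hNF : N ⊔ F = ⊤ := by
      rw [← top_le_iff, ← hF', hM]
      refine sup_le le_sup_left (sup_le le_sup_right ?_)
      exact le_trans Subgroup.le_normalizer le_sup_left
    have hs : Function.Surjective ((QuotientGroup.mk' F).comp N.subtype) := by
      rw [← MonoidHom.range_eq_top, MonoidHom.range_eq_map, ← map_map, ← MonoidHom.range_eq_map,
        range_subtype]
      have h1 := congrArg (map (QuotientGroup.mk' F)) hNF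
      rwa [Subgroup.map_sup, QuotientGroup.map_mk'_self, sup_bot_eq, map_top_of_surjective _
        (QuotientGroup.mk'_surjective F)] at h1
    obtain ⟨k, hk⟩ := IsPGroup.iff_card.1 (hNp.of_surjective _ hs)
    exact ⟨k, by rw [index_eq_card, hk]⟩
  set A₀ := E.map A.subtype with hA₀
  have hsup : D ⊔ A₀ = A := by
    refine le_antisymm (sup_le hDA (map_subtype_le _)) fun a ha => ?_
    obtain ⟨⟨d, e⟩, hde⟩ := hE.2 ⟨a, ha⟩
    have h1 : a = ((d : ↥A) : G) * ((e : ↥A) : G) := (congrArg Subtype.val hde).symm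
    rw [h1]
    exact mul_mem_sup (mem_subgroupOf.1 (hker ▸ d.2)) ⟨e, e.2, rfl⟩
  have hcardA₀ : Nat.card ↥A₀ = Nat.card ↥F := by
    rw [hA₀, card_map_of_injective A.subtype_injective,
      Nat.card_eq_of_bijective g ⟨hginj, hgs⟩]
  refine ⟨A₀, ?_, ?_, ?_, ?_, ?_, ?_, ?_, ?_, ?_⟩
  · rw [hA₀, ne_eq, map_eq_bot_iff_of_injective _ A.subtype_injective]
    exact (nontrivial_iff_ne_bot E).1 inferInstance
  · exact isCyclic_of_surjective _ (E.equivMapOfInjective _ A.subtype_injective).surjective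
  · rwa [hcardA₀]
  · rw [hcardA₀]
    exact (hp'.coprime_iff_not_dvd.2 hFp).symm
  · rw [hsup]
    exact (inferInstance : (F.comap (QuotientGroup.mk' D)).Normal)
  · rw [hsup, hA]
    intro h
    have h1 := congrArg (map (QuotientGroup.mk' D)) h
    rw [map_comap_eq_self_of_surjective (QuotientGroup.mk'_surjective D),
      map_top_of_surjective _ (QuotientGroup.mk'_surjective D)] at h1
    rw [h1, card_top] at hFp
    exact hFp hpX
  · rw [hsup, hA, index_comap_of_surjective _ (QuotientGroup.mk'_surjective D)]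
    exact hidx
  · intro a ha ha1
    obtain ⟨e, he, rfl⟩ := ha
    rw [eq_bot_iff]
    intro v hv
    rw [mem_bot]
    by_contra hv1
    exact ha1 (hfpfD _ v hv.1 hv1
      (mem_centralizer_singleton_iff.1 hv.2).symm (hEord ⟨e, he⟩))
  · intro y hy a ha ha1 hmem
    obtain ⟨e, he, rfl⟩ := ha
    set yb := (QuotientGroup.mk y : G ⧸ D) with hyb
    have hyF : yb ∉ F := fun h => hy (hsup.ge (mem_comap.2 h))
    set ab' := (QuotientGroup.mk (A.subtype e) : G ⧸ D) with hab'
    have habF : ab' ∈ F := e.2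
    have hab1 : ab' ≠ 1 := fun h => ha1 (by
      have h1 : g ⟨e, he⟩ = 1 := Subtype.ext h
      have h2 : (⟨e, he⟩ : ↥E) = 1 := hginj (h1.trans (map_one g).symm)
      rw [show e = (1 : ↥A) from congrArg Subtype.val h2, map_one])
    have hca : Commute yb ab' := by
      rw [← QuotientGroup.eq_one_iff] at hmem
      simp only [QuotientGroup.mk_mul, QuotientGroup.mk_inv] at hmem
      rw [mul_inv_eq_one] at hmem
      exact mul_inv_eq_iff_eq_mul.1 hmem
    obtain ⟨s, m, hm, hsm⟩ := Nat.exists_eq_pow_mul_and_not_dvd (orderOf_pos yb).ne' p hp'.ne_one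
    set u := yb ^ m with hu
    have hu1 : u ≠ 1 := by
      intro h
      obtain ⟨n, hn⟩ := hidx
      have h1 : orderOf (QuotientGroup.mk yb : (G ⧸ D) ⧸ F) ∣ m :=
        (orderOf_map_dvd (QuotientGroup.mk' F) yb).trans (orderOf_dvd_iff_pow_eq_one.2 h)
      have h2 : orderOf (QuotientGroup.mk yb : (G ⧸ D) ⧸ F) ∣ p ^ n := by
        rw [← hn, index_eq_card]
        exact _root_.orderOf_dvd_natCard _
      have h3 := Nat.dvd_gcd h1 h2
      rw [((hp'.coprime_iff_not_dvd.2 hm).pow_left n).symm.gcd_eq_one, Nat.dvd_one,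
        orderOf_eq_one_iff, QuotientGroup.eq_one_iff] at h3
      exact hyF h3
    have huo : ∃ k, orderOf u = p ^ k := by
      have h1 : orderOf u ∣ p ^ s := by
        rw [orderOf_dvd_iff_pow_eq_one, hu, ← pow_mul, mul_comm, ← hsm, pow_orderOf_eq_one]
      obtain ⟨i, -, hi⟩ := (Nat.dvd_prime_pow hp').1 h1
      exact ⟨i, hi⟩
    obtain ⟨k, hk⟩ := orderOf_eq_pow (hpgrp u hu1 huo)
      (mem_centralizer_singleton_iff.2 (hca.pow_left m).eq.symm)
    have h4 := orderOf_dvd_natCard F habF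
    rw [hk] at h4
    rcases Nat.eq_zero_or_pos k with rfl | hk0
    · exact hab1 (orderOf_eq_one_iff.1 (by rw [hk, pow_zero]))
    · exact hFp ((dvd_pow_self p hk0.ne').trans h4)

end CfsgLib.CNGroup
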